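/-
Local criteria for maps of presheaves to be locally bijective.
-/
import Mathlib.CategoryTheory.Sites.LocallyBijective
import Mathlib.Algebra.Category.Grp.Basic

set_option linter.unusedSectionVars false
set_option linter.style.haveILetI false

universe u

open CategoryTheory Limits
open Opposite (op unop)

namespace Groth.Agent.ModCohLib

variable {C : Type u} [SmallCategory C] (J : GrothendieckTopology C)

/-- A cofinal system of coverings of `V` by objects satisfying `P`. -/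
def CofinalCover (P : C → Prop) (V : C) : Prop :=
  ∀ T ∈ J V, ∃ (ι : Type u) (Y : ι → C) (g : ∀ i, Y i ⟶ V),
    (∀ i, T.arrows (g i)) ∧ Sieve.ofArrows Y g ∈ J V ∧ ∀ i, P (Y i)

theorem CofinalCover.mono {P P' : C → Prop} {V : C} (h : CofinalCover J P V)
    (hP : ∀ Y, P Y → P' Y) : CofinalCover J P' V := by
  intro T hT
  obtain ⟨ι, Y, g, h₁, h₂, h₃⟩ := h T hT
  exact ⟨ι, Y, g, h₁, h₂, fun i => hP _ (h₃ i)⟩

theorem cofinalCover_of_forall {P : C → Prop} (B : Set C)
    (hB : ∀ U : C, ∃ (ι : Type u) (Y : ι → C) (g : ∀ i, Y i ⟶ U),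
      Sieve.ofArrows Y g ∈ J U ∧ ∀ i, Y i ∈ B)
    (hP : ∀ Y ∈ B, P Y) (V : C) : CofinalCover J P V := by
  intro T hT
  choose ι Y g hg hY using hB
  refine ⟨Σ W : (Σ W : C, {a : W ⟶ V // T.arrows a}), ι W.1, fun p => Y p.1.1 p.2,
    fun p => g p.1.1 p.2 ≫ p.1.2.1, fun p => T.downward_closed p.1.2.2 _, ?_, fun p => hP _ (hY _ p.2)⟩
  refine J.transitive hT _ fun W a ha => J.superset_covering ?_ (hg W)
  rintro Z z ⟨_, b, _, ⟨i⟩, rfl⟩
  exact ⟨_, b, _, Presieve.ofArrows.mk (⟨⟨W, a, ha⟩, i⟩ : Σ W : (Σ W : C, {a : W ⟶ V // T.arrows a}), ι W.1),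
    (Category.assoc _ _ _).symm⟩

variable {J} {P Q : Cᵒᵖ ⥤ AddCommGrpCat.{u}} (φ : P ⟶ Q)

/-- Every object is covered by objects on which `φ` factors as a map bijective on a cofinal system
of coverings followed by a locally bijective map. -/
def LocFactor (J : GrothendieckTopology C) {P Q : Cᵒᵖ ⥤ AddCommGrpCat.{u}} (φ : P ⟶ Q) : Prop :=
  ∀ U : C, ∃ (ι : Type u) (V : ι → C) (g : ∀ i, V i ⟶ U), Sieve.ofArrows V g ∈ J U ∧
    ∀ i, ∃ (R : Cᵒᵖ ⥤ AddCommGrpCat.{u}) (ψ : P ⟶ R) (χ : R ⟶ Q), φ = ψ ≫ χ ∧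
      Presheaf.IsLocallyInjective J χ ∧ Presheaf.IsLocallySurjective J χ ∧
      CofinalCover J (fun Y => Function.Bijective (ψ.app (op Y))) (V i)

theorem LocFactor.isLocallyBijective (h : LocFactor J φ) :
    Presheaf.IsLocallyInjective J φ ∧ Presheaf.IsLocallySurjective J φ := by
  constructor
  · constructor
    intro U x y hxy
    obtain ⟨ι, V, g, hg, hV⟩ := h U.unop
    refine J.transitive hg _ ?_
    rintro W w ⟨_, a, _, ⟨i⟩, rfl⟩
    rw [Sieve.pullback_comp]
    refine J.pullback_stable a ?_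
    obtain ⟨R, ψ, χ, rfl, hi, -, hc⟩ := hV i
    haveI := hi
    let x' := P.map (g i).op x
    let y' := P.map (g i).op y
    have hT : Presheaf.equalizerSieve (F := R) (ψ.app _ x') (ψ.app _ y') ∈ J (V i) := by
      refine Presheaf.equalizerSieve_mem J χ _ _ ?_
      show (ψ ≫ χ).app _ x' = (ψ ≫ χ).app _ y'
      simp only [x', y', NatTrans.naturality_apply, hxy]
    obtain ⟨κ, Y, g', hT', hg', hY⟩ := hc _ hT
    refine J.superset_covering ?_ hg'
    rintro Z z ⟨_, b, _, ⟨k⟩, rfl⟩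
    refine Sieve.downward_closed _ ?_ b
    show P.map (g' k ≫ g i).op x = P.map (g' k ≫ g i).op y
    rw [op_comp, Functor.map_comp]
    apply (hY k).1
    show ψ.app _ (P.map (g' k).op x') = ψ.app _ (P.map (g' k).op y')
    exact (NatTrans.naturality_apply ψ (g' k).op x').trans
      ((hT' k).trans (NatTrans.naturality_apply ψ (g' k).op y').symm)
  · constructor
    intro U q
    obtain ⟨ι, V, g, hg, hV⟩ := h U
    refine J.transitive hg _ ?_
    rintro W w ⟨_, a, _, ⟨i⟩, rfl⟩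
    rw [Sieve.pullback_comp]
    refine J.pullback_stable a ?_
    obtain ⟨R, ψ, χ, rfl, -, hs, hc⟩ := hV i
    haveI := hs
    obtain ⟨κ, Y, g', hT', hg', hY⟩ := hc _ (Presheaf.imageSieve_mem J χ (Q.map (g i).op q))
    refine J.superset_covering ?_ hg'
    rintro Z z ⟨_, b, _, ⟨k⟩, rfl⟩
    refine Sieve.downward_closed _ ?_ b
    obtain ⟨r, hr⟩ := hT' k
    obtain ⟨p, hp⟩ := (hY k).2 r
    refine ⟨p, ?_⟩
    show χ.app _ (ψ.app _ p) = Q.map (g' k ≫ g i).op q
    rw [hp, op_comp, Functor.map_comp]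
    exact hr

end Groth.Agent.ModCohLib
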