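/-
Maps into a derived limit of an eventually stationary tower.
-/
import Groth.Prelude.Def_CohCx

set_option linter.unusedSectionVars false
set_option linter.style.haveILetI false

universe v u

open CategoryTheory Limits Pretriangulated

namespace Groth.Agent.ModCohLib

variable {T : Type u} [Category.{v} T] [Preadditive T] [HasZeroObject T] [HasShift T ℤ]
  [∀ n : ℤ, (shiftFunctor T n).Additive] [Pretriangulated T]
  {K : ℕ → T} {t : ∀ n, K (n + 1) ⟶ K n} [HasProduct K] {L : T} {a : ∀ n, L ⟶ K n}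

theorem IsRlimVia.comp_eq (hL : CohCx.IsRlimVia K t L a) (n : ℕ) : a (n + 1) ≫ t n = a n := by
  obtain ⟨c, hc⟩ := hL
  have h0 : Pi.lift a ≫ Pi.lift (fun n => Pi.π K n - Pi.π K (n + 1) ≫ t n) = 0 :=
    comp_distTriang_mor_zero₁₂ _ hc
  have h := congrArg (· ≫ Pi.π K n) h0
  simp only [Category.assoc, Pi.lift_π, zero_comp, Preadditive.comp_sub, Pi.lift_π_assoc,
    sub_eq_zero] at h
  exact h.symm

/-- If maps from `Z` do not see the transition maps from stage `n₀` on, they see the derived limit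
as stage `n`, for `n₀ ≤ n`. -/
theorem IsRlimVia.bijective (hL : CohCx.IsRlimVia K t L a) (Z : T) (n₀ : ℕ)
    (h₀ : ∀ n, n₀ ≤ n → Function.Bijective fun x : Z ⟶ K (n + 1) => x ≫ t n)
    (h₁ : ∀ n, n₀ ≤ n → Function.Surjective fun x : Z⟦(1 : ℤ)⟧ ⟶ K (n + 1) => x ≫ t n)
    (n : ℕ) (hn : n₀ ≤ n) : Function.Bijective fun x : Z ⟶ L => x ≫ a n := by
  classical
  obtain ⟨c, hc⟩ := id hL
  let δ : ∏ᶜ K ⟶ ∏ᶜ K := Pi.lift fun n => Pi.π K n - Pi.π K (n + 1) ≫ t n
  have comp_zero_of : ∀ (s : Z ⟶ L) (m : ℕ), n₀ ≤ m → s ≫ a m = 0 → ∀ k, s ≫ a k = 0 := by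
    intro s m hm hs
    have hup : ∀ d, s ≫ a (m + d) = 0 := by
      intro d
      induction d with
      | zero => exact hs
      | succ d ih =>
        apply (h₀ (m + d) (by omega)).1
        show (s ≫ a (m + d + 1)) ≫ t (m + d) = 0 ≫ t (m + d)
        rw [Category.assoc, IsRlimVia.comp_eq hL, ih, zero_comp]
    have hdown : ∀ k d, s ≫ a (k + d) = 0 → s ≫ a k = 0 := by
      intro k d
      induction d with
      | zero => exact id
      | succ d ih =>
        intro h
        apply ih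
        rw [← IsRlimVia.comp_eq hL (k + d), ← Category.assoc]
        exact (congrArg (· ≫ t (k + d)) h).trans zero_comp
    intro k
    by_cases hk : m ≤ k
    · obtain ⟨d, rfl⟩ := Nat.exists_eq_add_of_le hk
      exact hup d
    · exact hdown k (m - k) (by rw [Nat.add_sub_cancel' (by omega)]; exact hs)
  refine ⟨?_, ?_⟩
  · suffices h : ∀ s : Z ⟶ L, s ≫ a n = 0 → s = 0 by
      intro x y hxy
      exact sub_eq_zero.1 (h _ (by rw [Preadditive.sub_comp, sub_eq_zero]; exact hxy))
    intro s hs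
    have hlift : s ≫ Pi.lift a = 0 := Limits.Pi.hom_ext _ _ fun k => by
      rw [Category.assoc, Pi.lift_π, zero_comp]
      exact comp_zero_of s n hn hs k
    obtain ⟨w, hw⟩ := Triangle.coyoneda_exact₁ _ hc (s⟦(1 : ℤ)⟧')
      (by
        show (shiftFunctor T (1 : ℤ)).map s ≫ (shiftFunctor T (1 : ℤ)).map (Pi.lift a) = 0
        rw [← Functor.map_comp, hlift, Functor.map_zero])
    replace hw : s⟦(1 : ℤ)⟧' = w ≫ c := hw
    let W : ∀ k, Z⟦(1 : ℤ)⟧ ⟶ K k := fun k => w ≫ Pi.π K k
    let down : ∀ (_d k : ℕ), Z⟦(1 : ℤ)⟧ ⟶ K k := fun d =>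
      Nat.rec (motive := fun _ => ∀ k, Z⟦(1 : ℤ)⟧ ⟶ K k) (fun _ => 0)
        (fun _ prev k => W k + prev (k + 1) ≫ t k) d
    have hsurj : ∀ k, n₀ ≤ k → ∀ y : Z⟦(1 : ℤ)⟧ ⟶ K k, ∃ x, x ≫ t k = y := h₁
    let up : ∀ d : ℕ, Z⟦(1 : ℤ)⟧ ⟶ K (n₀ + d) := fun d =>
      Nat.rec (motive := fun d => Z⟦(1 : ℤ)⟧ ⟶ K (n₀ + d)) 0
        (fun d prev => (hsurj (n₀ + d) (by omega) (prev - W (n₀ + d))).choose) d
    have hup : ∀ d, up (d + 1) ≫ t (n₀ + d) = up d - W (n₀ + d) := fun d =>
      (hsurj (n₀ + d) (by omega) (up d - W (n₀ + d))).choose_spec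
    let v : ∀ k, Z⟦(1 : ℤ)⟧ ⟶ K k := fun k =>
      if h : k ≤ n₀ then down (n₀ - k) k else (Nat.add_sub_cancel' (le_of_not_ge h)) ▸ up (k - n₀)
    have hv : ∀ d, v (n₀ + d) = up d := by
      intro d
      rcases Nat.eq_zero_or_pos d with rfl | hd
      · show dite _ _ _ = _
        rw [dif_pos (show n₀ + 0 ≤ n₀ by omega)]
        have h0 : ∀ m, m = 0 → down m n₀ = 0 := by rintro m rfl; rfl
        exact h0 _ (by omega)
      · show dite _ _ _ = _
        rw [dif_neg (by omega)]
        have : ∀ e (h : n₀ + e = n₀ + d), (h ▸ up e : Z⟦(1 : ℤ)⟧ ⟶ K (n₀ + d)) = up d := by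
          intro e h
          obtain rfl : e = d := by omega
          rfl
        exact this (n₀ + d - n₀) _
    have hrel : ∀ k, v k - v (k + 1) ≫ t k = W k := by
      intro k
      by_cases hk : k < n₀
      · have e : n₀ - k = (n₀ - (k + 1)) + 1 := by omega
        simp only [v, dif_pos (le_of_lt hk), dif_pos (show k + 1 ≤ n₀ by omega)]
        rw [e]
        show W k + down (n₀ - (k + 1)) (k + 1) ≫ t k - _ = W k
        exact add_sub_cancel_right _ _
      · obtain ⟨d, rfl⟩ := Nat.exists_eq_add_of_le (le_of_not_gt hk)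
        rw [show v (n₀ + d + 1) = up (d + 1) from hv (d + 1), hv d, hup, sub_sub_cancel]
    have hwδ : w = Pi.lift v ≫ δ := Limits.Pi.hom_ext _ _ fun k => by
      simp only [δ, Category.assoc, Pi.lift_π, Preadditive.comp_sub, Pi.lift_π_assoc]
      exact (hrel k).symm
    apply (shiftFunctor T (1 : ℤ)).map_injective
    rw [Functor.map_zero, hw, hwδ]
    exact (Category.assoc _ _ _).trans ((congrArg (Pi.lift v ≫ ·) (comp_distTriang_mor_zero₂₃ _ hc)).trans comp_zero)
  · intro x
    let downs : ∀ (d k : ℕ), (Z ⟶ K (k + d)) → (Z ⟶ K k) := fun d =>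
      Nat.rec (motive := fun d => ∀ k, (Z ⟶ K (k + d)) → (Z ⟶ K k)) (fun _ y => y)
        (fun d prev k y => prev k (y ≫ t (k + d))) d
    let up : ∀ d : ℕ, Z ⟶ K (n + d) := fun d =>
      Nat.rec (motive := fun d => Z ⟶ K (n + d)) x
        (fun d prev => ((h₀ (n + d) (by omega)).2 prev).choose) d
    have hup : ∀ d, up (d + 1) ≫ t (n + d) = up d := fun d =>
      ((h₀ (n + d) (by omega)).2 (up d)).choose_spec
    let y : ∀ k, Z ⟶ K k := fun k => downs n k ((Nat.add_comm n k) ▸ up k)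
    have hy : ∀ k, y (k + 1) ≫ t k = y k := by
      intro k
      have aux : ∀ (d k : ℕ) (z : Z ⟶ K (k + 1 + d)),
          downs d (k + 1) z ≫ t k = downs (d + 1) k ((show k + 1 + d = k + (d + 1) by omega) ▸ z) := by
        intro d
        induction d with
        | zero => intro k z; rfl
        | succ d ih =>
          intro k z
          show downs d (k + 1) (z ≫ t (k + 1 + d)) ≫ t k = _
          rw [ih]
          show downs (d + 1) k _ = downs (d + 1) k (_ ≫ t (k + (d + 1)))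
          refine congrArg (downs (d + 1) k) ?_
          have : ∀ (p q : ℕ) (h : p = q) (z : Z ⟶ K (p + 1)),
              (h ▸ (z ≫ t p) : Z ⟶ K q) = ((congrArg (· + 1) h) ▸ z) ≫ t q := by
            intro p q h z; subst h; rfl
          exact this (k + 1 + d) (k + (d + 1)) (by omega) z
      show downs n (k + 1) _ ≫ t k = downs n k _
      rw [aux]
      show downs n k (_ ≫ t (k + n)) = downs n k _
      refine congrArg (downs n k) ?_
      have : ∀ (p q r : ℕ) (h : p = q) (h' : p + 1 = r) (h'' : r = q + 1) (z : Z ⟶ K (p + 1)),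
          (h'' ▸ (h' ▸ z) : Z ⟶ K (q + 1)) ≫ t q = (h ▸ (z ≫ t p) : Z ⟶ K q) := by
        intro p q r h h' h'' z; subst h; subst h'; rfl
      rw [← hup k]
      exact this (n + k) (k + n) (k + 1 + n) (by omega) (by omega) (by omega) (up (k + 1))
    have hyδ : Pi.lift y ≫ δ = 0 := Limits.Pi.hom_ext _ _ fun k => by
      simp only [δ, Category.assoc, Pi.lift_π, Preadditive.comp_sub, Pi.lift_π_assoc, zero_comp,
        hy, sub_self]
    obtain ⟨g, hg⟩ := Triangle.coyoneda_exact₂ _ hc (Pi.lift y) hyδ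
    refine ⟨g, ?_⟩
    replace hg : Pi.lift y = g ≫ Pi.lift a := hg
    show g ≫ a n = x
    have e₁ : g ≫ a n = y n := by
      refine (congrArg (g ≫ ·) (Pi.lift_π (f := K) a n).symm).trans
        ((Category.assoc _ _ _).symm.trans ?_)
      exact (congrArg (· ≫ Pi.π K n) hg.symm).trans (Pi.lift_π _ _)
    rw [e₁]
    have hd : ∀ d, downs d n (up d) = x := by
      intro d
      induction d with
      | zero => rfl
      | succ d ih =>
        show downs d n (up (d + 1) ≫ t (n + d)) = x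
        rw [hup, ih]
    exact hd n

end Groth.Agent.ModCohLib
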