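/-
The tower of truncations of an object of the derived category.
-/
import Groth.Agent.DerLib.Devissage
import Groth.Prelude.Def_CohCx

set_option linter.unusedSectionVars false
set_option linter.style.haveILetI false
set_option backward.isDefEq.respectTransparency false

universe w u

open CategoryTheory Limits Pretriangulated DerivedCategory DerivedCategory.TStructure

namespace Groth.Agent.ModCohLib

variable {A : Type (u + 1)} [Category.{u} A] [Abelian A] [HasDerivedCategory.{w} A]

theorem isIso_homology_truncGEπ (X : DerivedCategory A) (c j : ℤ) (hj : c ≤ j) :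
    IsIso ((homologyFunctor A j).map ((t.truncGEπ c).app X)) :=
  DerLib.Devissage.isIso_homologyMap_mor₂ _ (t.triangleLTGE_distinguished c X) j
    (haveI : ((t.truncLT c).obj X).IsLE (c - 1) := inferInstance
     isZero_of_isLE ((t.truncLT c).obj X) (c - 1) j (by omega))
    (haveI : ((t.truncLT c).obj X).IsLE (c - 1) := inferInstance
     isZero_of_isLE ((t.truncLT c).obj X) (c - 1) (j + 1) (by omega))

theorem toTruncTower_comp (X : DerivedCategory A) (n : ℕ) :
    CohCx.toTruncTower X (n + 1) ≫ CohCx.truncTowerMap X n = CohCx.toTruncTower X n :=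
  t.π_natTransTruncGEOfLE_app _ _ _ X

theorem isIso_homology_truncTowerMap (X : DerivedCategory A) (n : ℕ) (j : ℤ) (hj : -(n : ℤ) ≤ j) :
    IsIso ((homologyFunctor A j).map (CohCx.truncTowerMap X n)) := by
  have h1 := isIso_homology_truncGEπ X (-((n + 1 : ℕ) : ℤ)) j (by omega)
  have h := isIso_homology_truncGEπ X (-(n : ℤ)) j hj
  haveI : IsIso ((homologyFunctor A j).map (CohCx.toTruncTower X (n + 1)) ≫
      (homologyFunctor A j).map (CohCx.truncTowerMap X n)) := by
    rw [← Functor.map_comp, toTruncTower_comp]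
    exact h
  haveI : IsIso ((homologyFunctor A j).map (CohCx.toTruncTower X (n + 1))) := h1
  exact IsIso.of_isIso_comp_left ((homologyFunctor A j).map (CohCx.toTruncTower X (n + 1))) _

theorem isZero_homology_truncTower (X : DerivedCategory A) (n : ℕ) (j : ℤ) (hj : j < -(n : ℤ)) :
    IsZero ((homologyFunctor A j).obj (CohCx.truncTower X n)) :=
  isZero_of_isGE ((t.truncGE (-(n : ℤ))).obj X) (-(n : ℤ)) j hj

/-- The cone of a transition map of the tower of truncations has a single cohomology object. -/
theorem homology_cone_truncTowerMap (X : DerivedCategory A) (n : ℕ) (T : Triangle (DerivedCategory A))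
    (hT : T ∈ distTriang _) (e₁ : T.obj₁ ≅ CohCx.truncTower X (n + 1))
    (e₂ : T.obj₂ ≅ CohCx.truncTower X n)
    (he : T.mor₁ ≫ e₂.hom = e₁.hom ≫ CohCx.truncTowerMap X n) (m : ℤ) :
    (m ≠ -(n : ℤ) - 2 → IsZero ((homologyFunctor A m).obj T.obj₃)) ∧
      (m = -(n : ℤ) - 2 → Nonempty ((homologyFunctor A m).obj T.obj₃ ≅
        (homologyFunctor A (m + 1)).obj X)) := by
  let H := fun q => homologyFunctor A q
  have hiso : ∀ q, -(n : ℤ) ≤ q → IsIso ((H q).map T.mor₁) := fun q hq => by
    haveI := isIso_homology_truncTowerMap X n q hq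
    rw [← isIso_comp_right_iff _ ((H q).map e₂.hom), ← Functor.map_comp, he, Functor.map_comp]
    infer_instance
  have hz₂ : ∀ q, q < -(n : ℤ) → IsZero ((H q).obj T.obj₂) := fun q hq =>
    (isZero_homology_truncTower X n q hq).of_iso ((H q).mapIso e₂)
  have hz₁ : ∀ q, q < -((n + 1 : ℕ) : ℤ) → IsZero ((H q).obj T.obj₁) := fun q hq =>
    (isZero_homology_truncTower X (n + 1) q hq).of_iso ((H q).mapIso e₁)
  have ex := HomologySequence.exact₃ T hT m (m + 1) rfl
  constructor
  · intro hm
    by_cases hm' : -(n : ℤ) ≤ m + 1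
    · haveI := hiso (m + 1) hm'
      refine ex.isZero_of_both_zeros ?_ ((cancel_mono ((H (m + 1)).map T.mor₁)).1
        ((HomologySequence.δ_comp T hT m (m + 1) rfl).trans zero_comp.symm))
      refine (HomologySequence.epi_homologyMap_mor₁_iff T hT m).1 ?_
      by_cases hm'' : -(n : ℤ) ≤ m
      · haveI := hiso m hm''
        infer_instance
      · exact ⟨fun _ _ _ => (hz₂ m (by omega)).eq_of_src _ _⟩
    · exact ex.isZero_of_both_zeros ((hz₂ m (by omega)).eq_of_src _ _)
        ((hz₁ (m + 1) (by omega)).eq_of_tgt _ _)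
  · intro hm
    haveI : Mono (HomologySequence.δ T m (m + 1) rfl) :=
      ex.mono_g ((hz₂ m (by omega)).eq_of_src _ _)
    haveI : Epi (HomologySequence.δ T m (m + 1) rfl) :=
      (HomologySequence.exact₁ T hT m (m + 1) rfl).epi_f ((hz₂ (m + 1) (by omega)).eq_of_tgt _ _)
    haveI : IsIso (HomologySequence.δ T m (m + 1) rfl) := isIso_of_mono_of_epi _
    haveI := isIso_homology_truncGEπ X (-((n + 1 : ℕ) : ℤ)) (m + 1) (by omega)
    exact ⟨asIso (HomologySequence.δ T m (m + 1) rfl) ≪≫ (H (m + 1)).mapIso e₁ ≪≫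
      (asIso ((H (m + 1)).map (CohCx.toTruncTower X (n + 1)))).symm⟩

end Groth.Agent.ModCohLib
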