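/-
A criterion for maps in the derived category of modules to be isomorphisms on cohomology.
-/
import Groth.Agent.ModCohLib.Sections
import Groth.Agent.ModCohLib.Local
import Groth.Agent.ModSiteLib.Grothendieck

set_option linter.unusedSectionVars false
set_option linter.style.haveILetI false
set_option backward.isDefEq.respectTransparency false

universe w u

open CategoryTheory Limits HomologicalComplex
open Opposite (op unop)

namespace Groth.Agent.ModCohLib

variable {C : Type u} [SmallCategory C] {J : GrothendieckTopology C} {O : Sheaf J CommRingCat.{u}}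

theorem hpshMap_eq_of_Q {I I' : CochainComplex (ModSite.Mod O) ℤ} [HasDerivedCategory.{w} (ModSite.Mod O)]
    [I'.IsKInjective] {φ φ' : I ⟶ I'} (h : DerivedCategory.Q.map φ = DerivedCategory.Q.map φ') (j : ℤ) :
    hpshMap φ j = hpshMap φ' j := by
  have h0 : (HomotopyCategory.quotient _ (ComplexShape.up ℤ)).map (φ - φ') = 0 :=
    DerLib.KInjUse.quotient_eq_zero_of_Q (by rw [Functor.map_sub, sub_eq_zero, h])
  rw [Functor.map_sub, sub_eq_zero] at h0
  exact ((Psec O).mapHomotopy (HomotopyCategory.homotopyOfEq _ _ h0)).homologyMap_eq j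

variable [HasDerivedCategory.{w} (ModSite.Mod O)]

variable (O) in
/-- The free module on `Y` in degree `j`, in the derived category. -/
noncomputable abbrev dgen (Y : C) (j : ℤ) : DerivedCategory (ModSite.Mod O) :=
  (DerivedCategory.singleFunctor (ModSite.Mod O) j).obj (ModSite.freeOn O Y)

/-- `a` induces a bijection on maps out of the free module on `Y` in degree `j`. -/
def GenBij {L L' : DerivedCategory (ModSite.Mod O)} (a : L ⟶ L') (j : ℤ) (Y : C) : Prop :=
  Function.Bijective fun x : dgen O Y j ⟶ L => x ≫ a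

theorem isIso_of_locally {L L' : DerivedCategory (ModSite.Mod O)} (a : L ⟶ L') (j : ℤ)
    (h : ∀ U : C, ∃ (ι : Type u) (V : ι → C) (g : ∀ i, V i ⟶ U), Sieve.ofArrows V g ∈ J U ∧
      ∀ i, ∃ (M : DerivedCategory (ModSite.Mod O)) (a' : L ⟶ M) (b : M ⟶ L'), a = a' ≫ b ∧
        IsIso ((DerivedCategory.homologyFunctor _ j).map b) ∧
        CofinalCover J (fun Y => GenBij a' j Y) (V i)) :
    IsIso ((DerivedCategory.homologyFunctor (ModSite.Mod O) j).map a) := by
  obtain ⟨I, hI, ⟨e⟩⟩ := DerLib.KInjUse.exists_iso_Q_kInjective L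
  obtain ⟨I', hI', ⟨e'⟩⟩ := DerLib.KInjUse.exists_iso_Q_kInjective L'
  haveI := hI
  haveI := hI'
  obtain ⟨φ, hφ⟩ := DerLib.KInjUse.Q_map_surjective I I' (e.inv ≫ a ≫ e'.hom)
  have hiso : ∀ {P P' : DerivedCategory (ModSite.Mod O)} {K K' : CochainComplex (ModSite.Mod O) ℤ}
      (f : P ⟶ P') (ψ : K ⟶ K') (eP : P ≅ DerivedCategory.Q.obj K)
      (eP' : P' ≅ DerivedCategory.Q.obj K'), DerivedCategory.Q.map ψ = eP.inv ≫ f ≫ eP'.hom →
      (IsIso ((DerivedCategory.homologyFunctor _ j).map f) ↔ IsIso (homologyMap ψ j)) := by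
    intro P P' K K' f ψ eP eP' he
    rw [← isIso_comp_left_iff ((DerivedCategory.homologyFunctor _ j).map eP.inv) (_ : _ ⟶ _),
      ← isIso_comp_right_iff _ ((DerivedCategory.homologyFunctor _ j).map eP'.hom), Category.assoc,
      ← Functor.map_comp, ← Functor.map_comp, ← he]
    exact NatIso.isIso_map_iff (DerivedCategory.homologyFunctorFactors (ModSite.Mod O) j) ψ
  rw [hiso a φ e e' hφ, isIso_homologyMap_iff]
  refine LocFactor.isLocallyBijective _ fun U => ?_
  obtain ⟨ι, V, g, hg, hV⟩ := h U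
  refine ⟨ι, V, g, hg, fun i => ?_⟩
  obtain ⟨M, a', b, rfl, hb, hc⟩ := hV i
  obtain ⟨I'', hI'', ⟨e''⟩⟩ := DerLib.KInjUse.exists_iso_Q_kInjective M
  haveI := hI''
  obtain ⟨ψ, hψ⟩ := DerLib.KInjUse.Q_map_surjective I I'' (e.inv ≫ a' ≫ e''.hom)
  obtain ⟨χ, hχ⟩ := DerLib.KInjUse.Q_map_surjective I'' I' (e''.inv ≫ b ≫ e'.hom)
  obtain ⟨h₁, h₂⟩ := (isIso_homologyMap_iff χ j).1 ((hiso b χ e'' e' hχ).1 hb)
  refine ⟨_, hpshMap ψ j, hpshMap χ j, ?_, h₁, h₂, hc.mono _ fun Y hY => ?_⟩
  · rw [show hpshMap ψ j ≫ hpshMap χ j = hpshMap (ψ ≫ χ) j by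
      simp only [hpshMap, Functor.map_comp, homologyMap_comp]]
    refine hpshMap_eq_of_Q ?_ j
    rw [Functor.map_comp, hψ, hχ, hφ]
    simp
  · refine (bijAt_iff ψ j Y).2 ?_
    rw [hψ]
    have hb' : Function.Bijective fun x : dgen O Y j ⟶ DerivedCategory.Q.obj I =>
        ((x ≫ e.inv) ≫ a') ≫ e''.hom := by
      have h1 := (Iso.homCongr (Iso.refl (dgen O Y j)) e'').bijective
      have h2 := (Iso.homCongr (Iso.refl (dgen O Y j)) e.symm).bijective
      have := h1.comp (hY.comp h2)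
      convert this using 1
      funext x
      simp
    simp only [Category.assoc] at hb'
    exact hb'

end Groth.Agent.ModCohLib
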