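/-
Vanishing of maps out of free modules from vanishing of cohomology.
-/
import Groth.Agent.ModCohLib.IsoCrit
import Groth.Agent.CohLib.ModExtH
import Groth.Agent.CohLib.Objects
import Groth.Agent.CohLib.Sections
import Groth.Agent.DerLib.Devissage
import Mathlib.Algebra.Homology.DerivedCategory.Ext.Basic

set_option linter.unusedSectionVars false
set_option linter.style.haveILetI false
set_option backward.isDefEq.respectTransparency false

universe w u

open CategoryTheory Limits CategoryTheory.Abelian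
open Opposite (op unop)

namespace Groth.Agent.ModCohLib

variable {C : Type u} [SmallCategory C] {J : GrothendieckTopology C} {O : Sheaf J CommRingCat.{u}}

theorem freeOnEquiv_add (M : ModSite.Mod O) (Y : C) (a b : ModSite.freeOn O Y ⟶ M) :
    ModSiteLib.freeOnEquiv M Y (a + b) =
      ModSiteLib.freeOnEquiv M Y a + ModSiteLib.freeOnEquiv M Y b := by
  rw [← Category.id_comp (a + b), ← Category.id_comp a, ← Category.id_comp b,
    ModSiteLib.freeOnEquiv_comp, ModSiteLib.freeOnEquiv_comp, ModSiteLib.freeOnEquiv_comp,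
    Category.id_comp, Category.id_comp]
  rfl

/-- The free abelian sheaf on `Y`, as in the definition of the cohomology over `Y`. -/
noncomputable abbrev freeAb (J : GrothendieckTopology C) (Y : C) : Sheaf J AddCommGrpCat.{u} :=
  (presheafToSheaf J AddCommGrpCat.{u}).obj (yoneda.obj Y ⋙ AddCommGrpCat.free.{u})

theorem secEquiv_add (Y : C) (F : Sheaf J AddCommGrpCat.{u}) (a b : freeAb J Y ⟶ F) :
    CohLib.secEquiv Y F (a + b) = CohLib.secEquiv Y F a + CohLib.secEquiv Y F b := by
  rw [← Category.id_comp (a + b), ← Category.id_comp a, ← Category.id_comp b,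
    CohLib.secEquiv_comp, CohLib.secEquiv_comp, CohLib.secEquiv_comp, Category.id_comp, Category.id_comp]
  rfl

/-- Maps out of the free module are maps out of the free abelian sheaf. -/
noncomputable def freeHomEquiv (M : ModSite.Mod O) (Y : C) :
    (ModSite.freeOn O Y ⟶ M) ≃+
      (freeAb J Y ⟶ (SheafOfModules.toSheaf (ModSite.ringSh O)).obj M) where
  toEquiv := (ModSiteLib.freeOnEquiv M Y).trans
    (CohLib.secEquiv Y ((SheafOfModules.toSheaf (ModSite.ringSh O)).obj M)).symm
  map_add' a b := by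
    apply (CohLib.secEquiv Y ((SheafOfModules.toSheaf (ModSite.ringSh O)).obj M)).injective
    rw [secEquiv_add]
    simp only [Equiv.toFun_as_coe, Equiv.trans_apply]
    erw [Equiv.apply_symm_apply, Equiv.apply_symm_apply, Equiv.apply_symm_apply]
    exact freeOnEquiv_add M Y a b

theorem freeHomEquiv_comp {M N : ModSite.Mod O} (Y : C) (a : ModSite.freeOn O Y ⟶ M) (p : M ⟶ N) :
    freeHomEquiv N Y (a ≫ p) =
      freeHomEquiv M Y a ≫ (SheafOfModules.toSheaf (ModSite.ringSh O)).map p := by
  apply (CohLib.secEquiv Y _).injective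
  rw [CohLib.secEquiv_comp]
  refine ((CohLib.secEquiv Y _).apply_symm_apply _).trans ?_
  refine (ModSiteLib.freeOnEquiv_comp Y a p).trans (Eq.symm ?_)
  exact congrArg _ ((CohLib.secEquiv Y _).apply_symm_apply _)

/-- Ext groups out of the free module are cohomology groups. -/
theorem nonempty_ext_freeOn_iso_HU [HasExt.{u} (ModSite.Mod O)] (M : ModSite.Mod O) (Y : C) (n : ℕ) :
    Nonempty (Ext.{u} (ModSite.freeOn O Y) M n ≃+ ModSite.HU O M n Y) := by
  haveI : PreservesFiniteLimits (SheafOfModules.toSheaf.{u} (ModSite.ringSh O)) := inferInstance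
  haveI : PreservesFiniteColimits (SheafOfModules.toSheaf.{u} (ModSite.ringSh O)) := inferInstance
  let S := preadditiveCoyoneda.obj (op (freeAb J Y))
  let F := SheafOfModules.toSheaf.{u} (ModSite.ringSh O)
  obtain ⟨i⟩ := CohLib.nonempty_rightDerived_iso_ext (F ⋙ S) (ModSite.freeOn O Y)
    (fun I => (freeHomEquiv I Y).symm)
    (fun {I I'} g x => (freeHomEquiv I' Y).symm_apply_eq.2 (by
      refine Eq.trans ?_ (freeHomEquiv_comp Y _ g).symm
      exact (congrArg (· ≫ F.map g) ((freeHomEquiv I Y).apply_symm_apply x)).symm)) M n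
  obtain ⟨j⟩ := SpSeqLib.nonempty_rightDerived_comp_iso S F
    (fun Q hQ q hq => by
      obtain ⟨q, rfl⟩ := Nat.exists_eq_succ_of_ne_zero hq.ne'
      haveI := hQ
      haveI : Subsingleton (Ext.{u} (freeAb J Y) (F.obj Q) (q + 1)) :=
        CohLib.subsingleton_HU _ (CohLib.isTotallyAcyclic_toSheaf _ Q) Y q
      obtain ⟨k⟩ := CohLib.nonempty_rightDerived_coyoneda_iso_ext (freeAb J Y) (F.obj Q) (q + 1)
      exact (AddCommGrpCat.isZero_of_subsingleton _).of_iso k)
    M n
  obtain ⟨k⟩ := CohLib.nonempty_rightDerived_coyoneda_iso_ext (freeAb J Y) (F.obj M) n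
  exact ⟨(i.symm ≪≫ j ≪≫ k).addCommGroupIsoToAddEquiv⟩

variable [HasDerivedCategory.{w} (ModSite.Mod O)]

theorem dgen_hom_single_eq_zero (M : ModSite.Mod O) (Y : C) (j m : ℤ) (k : ℕ) (h : m + k = j)
    (hM : Subsingleton (ModSite.HU O M k Y))
    (x : dgen O Y j ⟶ (DerivedCategory.singleFunctor (ModSite.Mod O) m).obj M) : x = 0 := by
  haveI : HasExt.{u} (ModSite.Mod O) := hasExt_of_enoughInjectives.{u} _
  obtain ⟨e⟩ := nonempty_ext_freeOn_iso_HU (O := O) M Y k
  haveI : Subsingleton (Ext.{u} (ModSite.freeOn O Y) M k) := e.toEquiv.subsingleton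
  let G := fun n => DerivedCategory.singleFunctor (ModSite.Mod O) n
  haveI : Subsingleton ((G 0).obj (ModSite.freeOn O Y) ⟶ ((G 0).obj M)⟦(k : ℤ)⟧) :=
    Ext.homEquiv.symm.subsingleton
  let sI := fun (n a a' : ℤ) (ha : n + a = a') (P : ModSite.Mod O) =>
    ((DerivedCategory.singleFunctors (ModSite.Mod O)).shiftIso n a a' ha).app P
  apply (shiftFunctor (DerivedCategory (ModSite.Mod O)) j).map_injective
  rw [Functor.map_zero]
  let eS := sI j 0 j (by omega) (ModSite.freeOn O Y)
  let eT := sI j (-(k : ℤ)) m (by omega) M ≪≫ (sI k (-(k : ℤ)) 0 (by omega) M).symm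
  rw [← cancel_epi eS.inv, ← cancel_mono eT.hom]
  exact (inferInstance : Subsingleton ((G 0).obj (ModSite.freeOn O Y) ⟶ ((G 0).obj M)⟦(k : ℤ)⟧)).elim _ _

theorem dgen_hom_eq_zero_of_isGE (Y : C) (j : ℤ) (X : DerivedCategory (ModSite.Mod O)) [X.IsGE (j + 1)]
    (x : dgen O Y j ⟶ X) : x = 0 :=
  haveI : (dgen O Y j).IsLE j := inferInstance
  DerivedCategory.TStructure.t.zero x j (j + 1) (by omega)

open DerivedCategory DerivedCategory.TStructure Pretriangulated in
/-- Devissage: a map out of the free module to a bounded below object vanishes if the maps to its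
cohomology objects vanish. -/
theorem dgen_hom_eq_zero_of_single (Y : C) (j a : ℤ) (X : DerivedCategory (ModSite.Mod O)) [X.IsGE a]
    (h : ∀ m ≤ j, ∀ y : dgen O Y j ⟶
      (singleFunctor (ModSite.Mod O) m).obj ((homologyFunctor (ModSite.Mod O) m).obj X), y = 0)
    (x : dgen O Y j ⟶ X) : x = 0 := by
  obtain ⟨k, hk⟩ : ∃ k : ℕ, j + 1 ≤ a + k := ⟨(j + 1 - a).toNat, by omega⟩
  induction k generalizing a X with
  | zero =>
    haveI : X.IsGE (j + 1) := t.isGE_of_ge X (j + 1) a (by omega)
    exact dgen_hom_eq_zero_of_isGE Y j X x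
  | succ k ih =>
    by_cases hja : j < a
    · haveI : X.IsGE (j + 1) := t.isGE_of_ge X (j + 1) a (by omega)
      exact dgen_hom_eq_zero_of_isGE Y j X x
    have hT := t.triangleLEGT_distinguished a X
    haveI hG : ((t.truncGT a).obj X).IsGE (a + 1) := inferInstance
    have hxπ : x ≫ (t.truncGTπ a).app X = 0 := by
      refine ih (a + 1) _ (fun m hm y => ?_) _ (by omega)
      by_cases hma : a < m
      · haveI := DerLib.Devissage.isIso_homology_truncGTπ X a m hma
        let e := (singleFunctor (ModSite.Mod O) m).mapIso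
          (asIso ((homologyFunctor (ModSite.Mod O) m).map ((t.truncGTπ a).app X)))
        rw [← cancel_mono e.inv, zero_comp]
        exact h m hm _
      · exact (((singleFunctor (ModSite.Mod O) m).map_isZero
          (isZero_of_isGE ((t.truncGT a).obj X) (a + 1) m (by omega))).eq_of_tgt _ _)
    obtain ⟨y, hy⟩ := Triangle.coyoneda_exact₂ _ hT x hxπ
    haveI : ((t.truncLE a).obj X).IsGE a := by
      rw [isGE_iff]
      intro i hi
      haveI := DerLib.Devissage.isIso_homology_truncLEι X a i (by omega)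
      exact (isZero_of_isGE X a i hi).of_iso
        (asIso ((homologyFunctor _ i).map ((t.truncLEι a).app X)))
    obtain ⟨e⟩ := DerLib.Devissage.nonempty_iso_single ((t.truncLE a).obj X) a
    haveI := DerLib.Devissage.isIso_homology_truncLEι X a a le_rfl
    let e' := e ≪≫ (singleFunctor (ModSite.Mod O) a).mapIso
      (asIso ((homologyFunctor _ a).map ((t.truncLEι a).app X)))
    have : y = 0 := by
      rw [← cancel_mono e'.hom, zero_comp]
      exact h a (by omega) _
    rw [hy, this]
    exact zero_comp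

open DerivedCategory in
/-- Vanishing of the cohomology over `Y` of the cohomology objects kills maps out of the free module. -/
theorem dgen_hom_eq_zero (Y : C) (j a : ℤ) (X : DerivedCategory (ModSite.Mod O)) [X.IsGE a]
    (h : ∀ (m : ℤ) (k : ℕ), m + k = j →
      Subsingleton (ModSite.HU O ((homologyFunctor (ModSite.Mod O) m).obj X) k Y))
    (x : dgen O Y j ⟶ X) : x = 0 :=
  dgen_hom_eq_zero_of_single Y j a X (fun m hm y => by
    obtain ⟨k, hk⟩ : ∃ k : ℕ, m + k = j := ⟨(j - m).toNat, by omega⟩
    exact dgen_hom_single_eq_zero _ Y j m k hk (h m k hk) y) x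

theorem subsingleton_HU_of_isZero {M : ModSite.Mod O} (hM : IsZero M) (k : ℕ) (Y : C) :
    Subsingleton (ModSite.HU O M k Y) := by
  haveI : HasExt.{u} (ModSite.Mod O) := hasExt_of_enoughInjectives.{u} _
  obtain ⟨e⟩ := nonempty_ext_freeOn_iso_HU (O := O) M Y k
  haveI : Subsingleton (Ext.{u} (ModSite.freeOn O Y) M k) := ⟨fun x y => by
    have h0 : ∀ z : Ext.{u} (ModSite.freeOn O Y) M k, z = 0 := fun z => by
      have := Ext.comp_mk₀_id z
      rw [hM.eq_of_src (𝟙 M) 0, Ext.mk₀_zero, Ext.comp_zero] at this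
      exact this.symm
    rw [h0 x, h0 y]⟩
  exact e.symm.toEquiv.subsingleton

theorem subsingleton_HU_of_iso {M N : ModSite.Mod O} (e : M ≅ N) (k : ℕ) (Y : C)
    (h : Subsingleton (ModSite.HU O N k Y)) : Subsingleton (ModSite.HU O M k Y) :=
  ((((Sheaf.cohomologyPresheafFunctor J k).mapIso
    ((SheafOfModules.toSheaf (ModSite.ringSh O)).mapIso e)).app (op Y)).addCommGroupIsoToAddEquiv.toEquiv).subsingleton

end Groth.Agent.ModCohLib
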