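/-
An object is the derived limit of its truncations when cohomological dimension is locally bounded.
-/
import Groth.Agent.ModCohLib.Rlim
import Groth.Agent.ModCohLib.Trunc

set_option linter.unusedSectionVars false
set_option linter.style.haveILetI false
set_option backward.isDefEq.respectTransparency false

universe w u

open CategoryTheory Limits Pretriangulated DerivedCategory DerivedCategory.TStructure
open Opposite (op unop)

namespace Groth.Agent.ModCohLib

variable {C : Type u} [SmallCategory C] {J : GrothendieckTopology C} {O : Sheaf J CommRingCat.{u}}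
  [HasDerivedCategory.{w} (ModSite.Mod O)]

theorem hasProduct_nat (X : ℕ → DerivedCategory (ModSite.Mod O)) : HasProduct X := by
  choose I hI e using fun t => DerLib.KInjUse.exists_iso_Q_kInjective (X t)
  exact DerLib.KInjUse.hasProduct_of_kInjective X I hI e

theorem genBij_truncTowerMap (X : DerivedCategory (ModSite.Mod O)) (n : ℕ) (Y : C) (j : ℤ)
    (h : ∀ k : ℕ, (k : ℤ) = j + n + 1 ∨ (k : ℤ) = j + n + 2 →
      Subsingleton (ModSite.HU O ((homologyFunctor (ModSite.Mod O) (-(n : ℤ) - 1)).obj X) k Y)) :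
    GenBij (CohCx.truncTowerMap X n) j Y ∧ Function.Surjective
      fun x : (dgen O Y j)⟦(1 : ℤ)⟧ ⟶ CohCx.truncTower X (n + 1) => x ≫ CohCx.truncTowerMap X n := by
  obtain ⟨Z, ψ, ψ', hT⟩ := distinguished_cocone_triangle (CohCx.truncTowerMap X n)
  have hc := homology_cone_truncTowerMap X n (Triangle.mk (CohCx.truncTowerMap X n) ψ ψ') hT
    (Iso.refl _) (Iso.refl _) ((Category.comp_id _).trans (Category.id_comp _).symm)
  haveI : Z.IsGE (-(n : ℤ) - 2) := by
    rw [isGE_iff]
    intro q hq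
    exact (hc q).1 (by omega)
  have vz : ∀ j', j - 1 ≤ j' → j' ≤ j → ∀ x : dgen O Y j' ⟶ Z, x = 0 := by
    intro j' h0 h1
    refine dgen_hom_eq_zero Y j' (-(n : ℤ) - 2) Z fun m k hk => ?_
    by_cases hm : m = -(n : ℤ) - 2
    · obtain ⟨e⟩ := (hc m).2 hm
      refine subsingleton_HU_of_iso e k Y ?_
      have := h k (by omega)
      rwa [show -(n : ℤ) - 1 = m + 1 by omega] at this
    · exact subsingleton_HU_of_isZero ((hc m).1 hm) k Y
  exact genBij_of_triangle (Triangle.mk (CohCx.truncTowerMap X n) ψ ψ') hT Y j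
    (vz j (by omega) le_rfl) (vz (j - 1) le_rfl (by omega))

/-- Local boundedness of the cohomological dimension on the cohomology objects of `X`. -/
def TowerVanish (X : DerivedCategory (ModSite.Mod O)) (B : Set C) : Prop :=
  ∀ j : ℤ, ∀ V ∈ B, ∃ n₀ : ℕ, CofinalCover J (fun Y => ∀ n : ℕ, n₀ ≤ n → ∀ k : ℕ,
    (k : ℤ) = j + n + 1 ∨ (k : ℤ) = j + n + 2 →
      Subsingleton (ModSite.HU O ((homologyFunctor (ModSite.Mod O) (-(n : ℤ) - 1)).obj X) k Y)) V

theorem isRlimVia_truncTower (X : DerivedCategory (ModSite.Mod O))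
    [HasProduct (CohCx.truncTower X)] (B : Set C)
    (hB : ∀ U : C, ∃ (ι : Type u) (Y : ι → C) (g : ∀ i, Y i ⟶ U), Sieve.ofArrows Y g ∈ J U ∧ ∀ i, Y i ∈ B)
    (h : TowerVanish X B) :
    CohCx.IsRlimVia (CohCx.truncTower X) (CohCx.truncTowerMap X) X (CohCx.toTruncTower X) := by
  let K := CohCx.truncTower X
  let t' := CohCx.truncTowerMap X
  obtain ⟨L, i, c, hδ⟩ := distinguished_cocone_triangle₁
    (Pi.lift fun n => Pi.π K n - Pi.π K (n + 1) ≫ t' n)
  let a : ∀ n, L ⟶ K n := fun n => i ≫ Pi.π K n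
  have hi : i = Pi.lift a := Limits.Pi.hom_ext _ _ fun n => by simp [a]
  rw [hi] at hδ
  have hL : CohCx.IsRlimVia K t' L a := ⟨c, hδ⟩
  have hzero : Pi.lift (CohCx.toTruncTower X) ≫
      Pi.lift (fun n => Pi.π K n - Pi.π K (n + 1) ≫ t' n) = 0 :=
    Limits.Pi.hom_ext _ _ fun n => by
      simp only [K, t', Category.assoc, Pi.lift_π, zero_comp, Preadditive.comp_sub, Pi.lift_π_assoc]
      exact sub_eq_zero.2 (toTruncTower_comp X n).symm
  obtain ⟨φ₀, hφ⟩ := Triangle.coyoneda_exact₂ _ hδ (Pi.lift (CohCx.toTruncTower X)) hzero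
  let φ : X ⟶ L := φ₀
  replace hφ : Pi.lift (CohCx.toTruncTower X) = φ ≫ Pi.lift a := hφ
  have hφa : ∀ n, φ ≫ a n = CohCx.toTruncTower X n := fun n => by
    refine (congrArg (φ ≫ ·) (Pi.lift_π (f := K) a n).symm).trans
      ((Category.assoc _ _ _).symm.trans ?_)
    exact (congrArg (· ≫ Pi.π K n) hφ.symm).trans (Pi.lift_π _ _)
  have key : ∀ j : ℤ, IsIso ((homologyFunctor (ModSite.Mod O) j).map φ) := by
    intro j
    let n₁ : ℕ := (-j).toNat
    have hLn := isIso_homology_rlim B hB K t' L a hL j n₁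
      (fun n hn => isIso_homology_truncTowerMap X n j (by omega)) (fun V hV => by
        obtain ⟨n₀, h₀⟩ := h j V hV
        exact ⟨n₀, h₀.mono _ fun Y hY n hn => genBij_truncTowerMap X n Y j (hY n hn)⟩) n₁ le_rfl
    have h1 := isIso_homology_truncGEπ X (-(n₁ : ℤ)) j (by omega)
    haveI := hLn
    haveI : IsIso ((homologyFunctor (ModSite.Mod O) j).map φ ≫
        (homologyFunctor (ModSite.Mod O) j).map (a n₁)) := by
      rw [← Functor.map_comp, hφa]
      exact h1
    exact IsIso.of_isIso_comp_right _ ((homologyFunctor (ModSite.Mod O) j).map (a n₁))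
  haveI hiφ : IsIso φ := (DerivedCategory.isIso_iff (C := ModSite.Mod O) (f := φ)).2 key
  refine ⟨c ≫ (inv φ)⟦(1 : ℤ)⟧', isomorphic_distinguished _ hδ _
    (Triangle.isoMk _ _ (@asIso _ _ X L φ hiφ) (Iso.refl _) (Iso.refl _) ?_ ?_ ?_)⟩
  · exact (Category.comp_id _).trans hφ
  · exact (Category.comp_id _).trans (Category.id_comp _).symm
  · show (c ≫ (inv φ)⟦(1 : ℤ)⟧') ≫ φ⟦(1 : ℤ)⟧' = 𝟙 _ ≫ c
    rw [Category.assoc, ← Functor.map_comp, IsIso.inv_hom_id, CategoryTheory.Functor.map_id,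
      Category.comp_id, Category.id_comp]

/-- For a bounded cohomological dimension, maps from the free modules see `X` as a deep truncation. -/
theorem genBij_toTruncTower (X : DerivedCategory (ModSite.Mod O)) (B : Set C)
    (hB : ∀ U : C, ∃ (ι : Type u) (Y : ι → C) (g : ∀ i, Y i ⟶ U), Sieve.ofArrows Y g ∈ J U ∧ ∀ i, Y i ∈ B)
    (h : TowerVanish X B) (Y : C) (j : ℤ) (n₀ : ℕ)
    (hY : ∀ n : ℕ, n₀ ≤ n → ∀ k : ℕ, (k : ℤ) = j + n + 1 ∨ (k : ℤ) = j + n + 2 →
      Subsingleton (ModSite.HU O ((homologyFunctor (ModSite.Mod O) (-(n : ℤ) - 1)).obj X) k Y))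
    (n : ℕ) (hn : n₀ ≤ n) : GenBij (CohCx.toTruncTower X n) j Y :=
  haveI := hasProduct_nat (CohCx.truncTower X)
  IsRlimVia.bijective (isRlimVia_truncTower X B hB h) (dgen O Y j) n₀
    (fun m hm => (genBij_truncTowerMap X m Y j (hY m hm)).1)
    (fun m hm => (genBij_truncTowerMap X m Y j (hY m hm)).2) n hn

end Groth.Agent.ModCohLib
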