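/-
Cohomology sheaves of unbounded derived direct images through sections upstairs.
-/
import Groth.Agent.ModCohLib.TruncLim
import Groth.Agent.DerLib.KInjEnough
import Groth.Agent.DerLib.KInjTriangulated
import Groth.Agent.DerLib.Amplitude
import Groth.Agent.SpSeqLib.Acyclic
import Groth.Prelude.Def_SiteCmp

set_option linter.unusedSectionVars false
set_option linter.style.haveILetI false
set_option backward.isDefEq.respectTransparency false

universe w w' u

open CategoryTheory Limits Pretriangulated DerivedCategory DerivedCategory.TStructure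
open Opposite (op unop)

namespace Groth.Agent.ModCohLib

variable {C : Type u} [SmallCategory C] {J : GrothendieckTopology C} {O_C : Sheaf J CommRingCat.{u}}
  {D : Type u} [SmallCategory D] {K : GrothendieckTopology D} {O_D : Sheaf K CommRingCat.{u}}
  (f : ModSite.RMor O_C O_D) [HasDerivedCategory.{w} (ModSite.Mod O_C)]
  [HasDerivedCategory.{w'} (ModSite.Mod O_D)]
  (RF : DerivedCategory (ModSite.Mod O_C) ⥤ DerivedCategory (ModSite.Mod O_D))
  (α : f.push.mapHomotopyCategory (ComplexShape.up ℤ) ⋙ Qh ⟶ Qh ⋙ RF)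
  [RF.IsRightDerivedFunctor α (HomotopyCategory.quasiIso (ModSite.Mod O_C) (ComplexShape.up ℤ))]

/-- Sections of a direct image are sections upstairs. -/
theorem bijAt_push_iff {I I' : CochainComplex (ModSite.Mod O_C) ℤ} (φ : I ⟶ I') (j : ℤ) (Y : D) :
    BijAt ((f.push.mapHomologicalComplex (ComplexShape.up ℤ)).map φ) j Y ↔ BijAt φ j (f.fn.obj Y) := by
  rw [bijAt_iff_secAt, bijAt_iff_secAt]
  exact Iff.rfl

include α

/-- The value of the derived direct image on a K-injective complex. -/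
noncomputable def rpushQIso (I : CochainComplex (ModSite.Mod O_C) ℤ) [I.IsKInjective] :
    RF.obj (Q.obj I) ≅ Q.obj ((f.push.mapHomologicalComplex (ComplexShape.up ℤ)).obj I) :=
  haveI := DerLib.KInjDerived.isIso_app RF α (DerLib.KInjDerived.enoughKInj _) I
  RF.mapIso ((quotientCompQhIso _).app I).symm ≪≫
    (asIso (α.app ((HomotopyCategory.quotient _ (ComplexShape.up ℤ)).obj I))).symm ≪≫
    Qh.mapIso ((f.push.mapHomotopyCategoryFactors (ComplexShape.up ℤ)).app I) ≪≫
    (quotientCompQhIso _).app _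

theorem rpushQIso_natural {I I' : CochainComplex (ModSite.Mod O_C) ℤ} [I.IsKInjective]
    [I'.IsKInjective] (φ : I ⟶ I') :
    RF.map (Q.map φ) ≫ (rpushQIso f RF α I').hom = (rpushQIso f RF α I).hom ≫
      Q.map ((f.push.mapHomologicalComplex (ComplexShape.up ℤ)).map φ) := by
  haveI := DerLib.KInjDerived.isIso_app RF α (DerLib.KInjDerived.enoughKInj _) I
  haveI := DerLib.KInjDerived.isIso_app RF α (DerLib.KInjDerived.enoughKInj _) I'
  dsimp only [rpushQIso, Iso.trans_hom, Functor.mapIso_hom, Iso.symm_hom, asIso_inv, Iso.app_hom,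
    Iso.app_inv]
  have h1 := α.naturality ((HomotopyCategory.quotient _ (ComplexShape.up ℤ)).map φ)
  have h2 := (quotientCompQhIso (ModSite.Mod O_C)).inv.naturality φ
  have h3 := (f.push.mapHomotopyCategoryFactors (ComplexShape.up ℤ)).hom.naturality φ
  have h4 := (quotientCompQhIso (ModSite.Mod O_D)).hom.naturality
    ((f.push.mapHomologicalComplex (ComplexShape.up ℤ)).map φ)
  dsimp at h1 h2 h3 h4
  simp only [Category.assoc]
  rw [← Functor.map_comp_assoc, h2, Functor.map_comp_assoc]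
  congr 1
  rw [← cancel_epi (α.app ((HomotopyCategory.quotient _ (ComplexShape.up ℤ)).obj I))]
  erw [← reassoc_of% h1]
  simp only [IsIso.hom_inv_id_assoc]
  rw [← Functor.map_comp_assoc, h3, Functor.map_comp_assoc]
  erw [h4]

/-- A criterion for a map to induce an isomorphism on the cohomology sheaves of derived direct images. -/
theorem isIso_homology_rpush_of_locally {L L' : DerivedCategory (ModSite.Mod O_C)} (a : L ⟶ L') (j : ℤ)
    (h : ∀ U : D, ∃ (ι : Type u) (V : ι → D) (g : ∀ i, V i ⟶ U), Sieve.ofArrows V g ∈ K U ∧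
      ∀ i, ∃ (M : DerivedCategory (ModSite.Mod O_C)) (a' : L ⟶ M) (b : M ⟶ L'), a = a' ≫ b ∧
        IsIso ((homologyFunctor _ j).map (RF.map b)) ∧
        CofinalCover K (fun Y => GenBij a' j (f.fn.obj Y)) (V i)) :
    IsIso ((homologyFunctor (ModSite.Mod O_D) j).map (RF.map a)) := by
  let P := f.push.mapHomologicalComplex (ComplexShape.up ℤ)
  obtain ⟨I, hI, ⟨e⟩⟩ := DerLib.KInjUse.exists_iso_Q_kInjective L
  obtain ⟨I', hI', ⟨e'⟩⟩ := DerLib.KInjUse.exists_iso_Q_kInjective L'
  haveI := hI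
  haveI := hI'
  obtain ⟨φ, hφ⟩ := DerLib.KInjUse.Q_map_surjective I I' (e.inv ≫ a ≫ e'.hom)
  have hiso : ∀ {T T' : DerivedCategory (ModSite.Mod O_C)} {I₁ I₂ : CochainComplex (ModSite.Mod O_C) ℤ}
      [I₁.IsKInjective] [I₂.IsKInjective]
      (g : T ⟶ T') (ψ : I₁ ⟶ I₂) (eT : T ≅ Q.obj I₁) (eT' : T' ≅ Q.obj I₂),
      Q.map ψ = eT.inv ≫ g ≫ eT'.hom →
      (IsIso ((homologyFunctor _ j).map (RF.map g)) ↔
        IsIso (HomologicalComplex.homologyMap (P.map ψ) j)) := by
    intro T T' I₁ I₂ _ _ g ψ eT eT' he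
    have h1 : RF.map g ≫ (RF.map eT'.hom ≫ (rpushQIso f RF α I₂).hom) =
        (RF.map eT.hom ≫ (rpushQIso f RF α I₁).hom) ≫ Q.map (P.map ψ) := by
      rw [Category.assoc, ← rpushQIso_natural, he]
      simp only [← Functor.map_comp_assoc, Iso.hom_inv_id_assoc]
    have h2 := congrArg (homologyFunctor (ModSite.Mod O_D) j).map h1
    simp only [Functor.map_comp] at h2
    rw [← isIso_comp_right_iff _ ((homologyFunctor (ModSite.Mod O_D) j).map (RF.map eT'.hom) ≫
      (homologyFunctor (ModSite.Mod O_D) j).map (rpushQIso f RF α I₂).hom), h2, isIso_comp_left_iff]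
    exact NatIso.isIso_map_iff (homologyFunctorFactors (ModSite.Mod O_D) j) (P.map ψ)
  rw [hiso a φ e e' hφ, isIso_homologyMap_iff]
  refine LocFactor.isLocallyBijective _ fun U => ?_
  obtain ⟨ι, V, g, hg, hV⟩ := h U
  refine ⟨ι, V, g, hg, fun i => ?_⟩
  obtain ⟨M, a', b, rfl, hb, hc⟩ := hV i
  obtain ⟨I'', hI'', ⟨e''⟩⟩ := DerLib.KInjUse.exists_iso_Q_kInjective M
  haveI := hI''
  obtain ⟨ψ, hψ⟩ := DerLib.KInjUse.Q_map_surjective I I'' (e.inv ≫ a' ≫ e''.hom)
  obtain ⟨χ, hχ⟩ := DerLib.KInjUse.Q_map_surjective I'' I' (e''.inv ≫ b ≫ e'.hom)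
  obtain ⟨h₁, h₂⟩ := (isIso_homologyMap_iff (P.map χ) j).1 ((hiso b χ e'' e' hχ).1 hb)
  refine ⟨_, hpshMap (P.map ψ) j, hpshMap (P.map χ) j, ?_, h₁, h₂, hc.mono _ fun Y hY => ?_⟩
  · rw [show hpshMap (P.map ψ) j ≫ hpshMap (P.map χ) j = hpshMap (P.map (ψ ≫ χ)) j by
      simp only [hpshMap, Functor.map_comp, HomologicalComplex.homologyMap_comp]]
    have h0 : (HomotopyCategory.quotient _ (ComplexShape.up ℤ)).map (φ - ψ ≫ χ) = 0 :=
      DerLib.KInjUse.quotient_eq_zero_of_Q (by
        rw [Functor.map_sub, sub_eq_zero, Functor.map_comp, hψ, hχ, hφ]; simp)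
    rw [Functor.map_sub, sub_eq_zero] at h0
    exact ((Psec O_D).mapHomotopy (f.push.mapHomotopy
      (HomotopyCategory.homotopyOfEq _ _ h0))).homologyMap_eq j
  · refine (bijAt_push_iff f ψ j Y).2 ((bijAt_iff ψ j (f.fn.obj Y)).2 ?_)
    rw [hψ]
    have hb' : Function.Bijective fun x : dgen O_C (f.fn.obj Y) j ⟶ Q.obj I =>
        ((x ≫ e.inv) ≫ a') ≫ e''.hom := by
      have h1 := (Iso.homCongr (Iso.refl (dgen O_C (f.fn.obj Y) j)) e'').bijective
      have h2 := (Iso.homCongr (Iso.refl (dgen O_C (f.fn.obj Y) j)) e.symm).bijective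
      have := h1.comp (hY.comp h2)
      convert this using 1
      funext x
      simp
    simp only [Category.assoc] at hb'
    exact hb'

/-- The derived direct image of a module is computed by the higher direct images. -/
theorem nonempty_homology_rpush_single_iso [HasInjectiveResolutions (ModSite.Mod O_C)]
    (F : ModSite.Mod O_C) (i : ℕ) :
    Nonempty ((homologyFunctor (ModSite.Mod O_D) (i : ℤ)).obj
      (RF.obj ((singleFunctor (ModSite.Mod O_C) 0).obj F)) ≅ (f.Rpush i).obj F) := by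
  let R : InjectiveResolution F := injectiveResolution F
  haveI : ∀ m, Injective (R.cochainComplex.X m) := fun m => inferInstance
  haveI : R.cochainComplex.IsKInjective := CochainComplex.isKInjective_of_injective R.cochainComplex 0
  haveI := (isIso_Q_map_iff_quasiIso (ModSite.Mod O_C) R.ι').2 inferInstance
  exact ⟨(homologyFunctor (ModSite.Mod O_D) (i : ℤ)).mapIso
      (RF.mapIso ((singleFunctorIsoCompQ (ModSite.Mod O_C) 0).app F ≪≫ asIso (Q.map R.ι')) ≪≫
        rpushQIso f RF α R.cochainComplex) ≪≫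
    (homologyFunctorFactors (ModSite.Mod O_D) (i : ℤ)).app _ ≪≫
    HomologicalComplex.homologyMapIso (SpSeqLib.mapExtendNatIso f.push R.cocomplex) (i : ℤ) ≪≫
    HomologicalComplex.extendHomologyIso ((f.push.mapHomologicalComplex _).obj R.cocomplex)
      ComplexShape.embeddingUpNat (j := i) (j' := (i : ℤ)) rfl ≪≫
    (R.isoRightDerivedObj f.push i).symm⟩

/-- The derived direct image lies in degrees at least those of the argument. -/
theorem leftBound_rpush : DerLib.Devissage.LeftBound RF 0 :=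
  DerLib.Amplitude.leftBound_rightDerived f.push RF α (DerLib.KInjDerived.enoughKInj _)

/-- Vanishing of derived direct images of bounded complexes above the cohomological dimension. -/
theorem isZero_homology_rpush_of_bounded [HasInjectiveResolutions (ModSite.Mod O_C)]
    (A : ObjectProperty (ModSite.Mod O_C)) [WSerre.IsWeakSerre A] (N : ℤ)
    (h4 : ∀ F, A F → ∀ p : ℕ, N < (p : ℤ) → IsZero ((f.Rpush p).obj F))
    (a b : ℤ) (Z : DerivedCategory (ModSite.Mod O_C)) [Z.IsGE a] [Z.IsLE b] (hZ : WSerre.cohIn A Z)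
    (j : ℤ) (hj : N + b < j) : IsZero ((homologyFunctor (ModSite.Mod O_D) j).obj (RF.obj Z)) := by
  obtain ⟨_, _⟩ := DerLib.KInjDerived.exists_isTriangulated_map (DerLib.KInjDerived.enoughKInj _) f.push RF α
  let H := fun q => homologyFunctor (ModSite.Mod O_D) q
  have single : ∀ (F : ModSite.Mod O_C), A F → ∀ q i : ℤ, N + q < i →
      IsZero ((H i).obj (RF.obj ((singleFunctor _ q).obj F))) := by
    intro F hF q i hi
    let e : RF.obj ((singleFunctor _ q).obj F) ≅ (RF.obj ((singleFunctor _ 0).obj F))⟦-q⟧ :=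
      RF.mapIso (((singleFunctors (ModSite.Mod O_C)).shiftIso (-q) q 0 (by omega)).app F).symm ≪≫
        (RF.commShiftIso (-q)).app _
    let e' := (H i).mapIso e ≪≫
      ((homologyFunctor (ModSite.Mod O_D) 0).shiftIso (-q) i (i - q) (by omega)).app _
    refine IsZero.of_iso ?_ e'
    by_cases hiq : 0 ≤ i - q
    · obtain ⟨p, hp⟩ := Int.eq_ofNat_of_zero_le hiq
      obtain ⟨k⟩ := nonempty_homology_rpush_single_iso f RF α F p
      have hp' := (h4 F hF p (by omega)).of_iso k
      rw [← hp] at hp'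
      exact hp'
    · exact leftBound_rpush f RF α ((singleFunctor _ 0).obj F) 0 (i - q) inferInstance (by omega)
  obtain ⟨k, hk⟩ : ∃ k : ℕ, b + 1 ≤ a + k := ⟨(b + 1 - a).toNat, by omega⟩
  induction k generalizing a Z with
  | zero =>
    haveI : Z.IsGE (b + 1) := t.isGE_of_ge Z (b + 1) a (by omega)
    exact (H j).map_isZero (RF.map_isZero ((IsZero.iff_id_eq_zero _).2
      (t.zero (𝟙 Z) b (b + 1) (by omega))))
  | succ k ih =>
    have hTT := t.triangleLEGT_distinguished a Z
    haveI : ((t.truncLE a).obj Z).IsGE a := by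
      rw [isGE_iff]
      intro i hi
      haveI := DerLib.Devissage.isIso_homology_truncLEι Z a i (by omega)
      exact (isZero_of_isGE Z a i hi).of_iso
        (asIso ((homologyFunctor _ i).map ((t.truncLEι a).app Z)))
    have hex := HomologySequence.exact₂ _ (RF.map_distinguished _ hTT) j
    refine hex.isZero_of_both_zeros ?_ ?_
    · refine IsZero.eq_of_src ?_ _ _
      obtain ⟨e⟩ := DerLib.Devissage.nonempty_iso_single ((t.truncLE a).obj Z) a
      refine IsZero.of_iso ?_ ((H j).mapIso (RF.mapIso e))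
      by_cases hab : a ≤ b
      · haveI := DerLib.Devissage.isIso_homology_truncLEι Z a a le_rfl
        exact single _ (A.prop_of_iso (asIso ((homologyFunctor _ a).map ((t.truncLEι a).app Z))).symm
          (hZ a)) a j (by omega)
      · refine (H j).map_isZero (RF.map_isZero ((singleFunctor _ a).map_isZero ?_))
        haveI := DerLib.Devissage.isIso_homology_truncLEι Z a a le_rfl
        exact (isZero_of_isLE Z b a (by omega)).of_iso
          (asIso ((homologyFunctor _ a).map ((t.truncLEι a).app Z)))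
    · refine IsZero.eq_of_tgt ?_ _ _
      haveI : ((t.truncGT a).obj Z).IsLE b := by
        rw [isLE_iff]
        intro i hi
        by_cases hai : a < i
        · haveI := DerLib.Devissage.isIso_homology_truncGTπ Z a i hai
          exact (isZero_of_isLE Z b i hi).of_iso
            (asIso ((homologyFunctor _ i).map ((t.truncGTπ a).app Z))).symm
        · exact isZero_of_isGE ((t.truncGT a).obj Z) (a + 1) i (by omega)
      refine ih (a + 1) ((t.truncGT a).obj Z) (fun i => ?_) (by omega)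
      by_cases hai : a < i
      · haveI := DerLib.Devissage.isIso_homology_truncGTπ Z a i hai
        exact A.prop_of_iso (asIso ((homologyFunctor _ i).map ((t.truncGTπ a).app Z))) (hZ i)
      · exact A.prop_of_isZero (isZero_of_isGE ((t.truncGT a).obj Z) (a + 1) i (by omega))

/-- Truncation does not change the derived direct image in high degrees, under locally bounded
cohomological dimension. -/
theorem isIso_homology_rpush_truncGE [HasInjectiveResolutions (ModSite.Mod O_C)]
    (A : ObjectProperty (ModSite.Mod O_C)) [WSerre.IsWeakSerre A]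
    (B : Set C) (B' : Set D)
    (hB : ∀ U : C, ∃ (ι : Type u) (Y : ι → C) (g : ∀ i, Y i ⟶ U), Sieve.ofArrows Y g ∈ J U ∧ ∀ i, Y i ∈ B)
    (hA : ∀ V ∈ B, ∃ d : ℕ, CofinalCover J (fun W => ∀ (F : ModSite.Mod O_C), A F → ∀ k : ℕ, d < k →
      Subsingleton (ModSite.HU O_C F k W)) V)
    (hB' : ∀ U : D, ∃ (ι : Type u) (Y : ι → D) (g : ∀ i, Y i ⟶ U), Sieve.ofArrows Y g ∈ K U ∧ ∀ i, Y i ∈ B')
    (hA' : ∀ V ∈ B', ∃ d : ℕ, CofinalCover K (fun Y => ∀ (F : ModSite.Mod O_C), A F → ∀ k : ℕ, d < k →
      Subsingleton (ModSite.HU O_C F k (f.fn.obj Y))) V)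
    (N : ℤ) (h4 : ∀ F, A F → ∀ p : ℕ, N < (p : ℤ) → IsZero ((f.Rpush p).obj F))
    (X : DerivedCategory (ModSite.Mod O_C)) (hX : WSerre.cohIn A X) (c j : ℤ) (hj : N + c ≤ j) :
    IsIso ((homologyFunctor (ModSite.Mod O_D) j).map (RF.map ((t.truncGEπ c).app X))) := by
  obtain ⟨_, _⟩ := DerLib.KInjDerived.exists_isTriangulated_map (DerLib.KInjDerived.enoughKInj _) f.push RF α
  let H := fun q => homologyFunctor (ModSite.Mod O_D) q
  have hv : TowerVanish X B := by
    intro j V hV
    obtain ⟨d, hd⟩ := hA V hV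
    refine ⟨(d - j).toNat, hd.mono _ fun W hW n hn k hk => hW _ (hX _) k ?_⟩
    omega
  refine isIso_homology_rpush_of_locally f RF α _ j fun U => ?_
  obtain ⟨ι, V, g, hg, hV⟩ := hB' U
  refine ⟨ι, V, g, hg, fun i => ?_⟩
  obtain ⟨d, hd⟩ := hA' (V i) (hV i)
  let n₀ : ℕ := (d - j).toNat + (-c).toNat
  let X' := CohCx.truncTower X n₀
  haveI : IsIso ((t.truncGE c).map (CohCx.toTruncTower X n₀)) :=
    t.isIso_truncGE_map_truncGEπ_app c (-(n₀ : ℤ)) (by omega) X
  refine ⟨X', CohCx.toTruncTower X n₀,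
    (t.truncGEπ c).app X' ≫ inv ((t.truncGE c).map (CohCx.toTruncTower X n₀)), ?_, ?_,
    hd.mono _ fun Y hY => genBij_toTruncTower X B hB hv _ j n₀
      (fun n hn k hk => hY _ (hX _) k (by omega)) n₀ le_rfl⟩
  · rw [← Category.assoc, IsIso.eq_comp_inv]
    exact ((t.truncGEπ c).naturality (CohCx.toTruncTower X n₀)).symm
  · rw [Functor.map_comp, Functor.map_comp]
    haveI : IsIso ((H j).map (RF.map ((t.truncGEπ c).app X'))) := by
      haveI : X'.IsGE (-(n₀ : ℤ)) := inferInstanceAs (t.IsGE ((t.truncGE (-(n₀ : ℤ))).obj X) _)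
      have hTT := t.triangleLTGE_distinguished c X'
      haveI hle : ((t.truncLT c).obj X').IsLE (c - 1) := inferInstance
      have hlt : ∀ q, q < c → IsIso ((homologyFunctor (ModSite.Mod O_C) q).map ((t.truncLTι c).app X')) :=
        fun q hq => DerLib.Devissage.isIso_homologyMap_mor₁ _ hTT q
          (isZero_of_isGE ((t.truncGE c).obj X') c q hq)
          (isZero_of_isGE ((t.truncGE c).obj X') c (q - 1) (by omega))
      haveI : ((t.truncLT c).obj X').IsGE (-(n₀ : ℤ)) := by
        rw [isGE_iff]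
        intro q hq
        haveI := hlt q (by omega)
        exact (isZero_of_isGE X' (-(n₀ : ℤ)) q hq).of_iso
          (asIso ((homologyFunctor _ q).map ((t.truncLTι c).app X')))
      have hZ : WSerre.cohIn A ((t.truncLT c).obj X') := fun q => by
        by_cases hq : q < c
        · haveI := hlt q hq
          refine A.prop_of_iso (asIso ((homologyFunctor _ q).map ((t.truncLTι c).app X'))).symm ?_
          by_cases hq' : -(n₀ : ℤ) ≤ q
          · haveI := isIso_homology_truncGEπ X (-(n₀ : ℤ)) q hq'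
            exact A.prop_of_iso (asIso ((homologyFunctor _ q).map (CohCx.toTruncTower X n₀))) (hX q)
          · exact A.prop_of_isZero (isZero_of_isGE X' (-(n₀ : ℤ)) q (by omega))
        · exact A.prop_of_isZero (isZero_of_isLE ((t.truncLT c).obj X') (c - 1) q (by omega))
      exact DerLib.Devissage.isIso_homologyMap_mor₂ _ (RF.map_distinguished _ hTT) j
        (isZero_homology_rpush_of_bounded f RF α A N h4 (-(n₀ : ℤ)) (c - 1) _ hZ j (by omega))
        (isZero_homology_rpush_of_bounded f RF α A N h4 (-(n₀ : ℤ)) (c - 1) _ hZ (j + 1) (by omega))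
    infer_instance

/-- The derived direct image of a module with higher direct images in a weak Serre class. -/
theorem cohIn_rpush_single [HasInjectiveResolutions (ModSite.Mod O_C)]
    (A' : ObjectProperty (ModSite.Mod O_D)) [WSerre.IsWeakSerre A'] (F : ModSite.Mod O_C)
    (h : ∀ p : ℕ, A' ((f.Rpush p).obj F)) :
    WSerre.cohIn A' (RF.obj ((singleFunctor (ModSite.Mod O_C) 0).obj F)) := fun i => by
  by_cases hi : 0 ≤ i
  · obtain ⟨p, rfl⟩ := Int.eq_ofNat_of_zero_le hi
    obtain ⟨e⟩ := nonempty_homology_rpush_single_iso f RF α F p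
    exact A'.prop_of_iso e.symm (h p)
  · exact A'.prop_of_isZero
      (leftBound_rpush f RF α ((singleFunctor _ 0).obj F) 0 i inferInstance (by omega))

/-- The unbounded derived direct image preserves cohomology conditions. -/
theorem cohIn_rpush [HasInjectiveResolutions (ModSite.Mod O_C)]
    (A : ObjectProperty (ModSite.Mod O_C)) [WSerre.IsWeakSerre A]
    (A' : ObjectProperty (ModSite.Mod O_D)) [WSerre.IsWeakSerre A']
    (h3 : ∀ F, A F → ∀ p : ℕ, A' ((f.Rpush p).obj F))
    (B : Set C) (B' : Set D)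
    (hB : ∀ U : C, ∃ (ι : Type u) (Y : ι → C) (g : ∀ i, Y i ⟶ U), Sieve.ofArrows Y g ∈ J U ∧ ∀ i, Y i ∈ B)
    (hA : ∀ V ∈ B, ∃ d : ℕ, CofinalCover J (fun W => ∀ (F : ModSite.Mod O_C), A F → ∀ k : ℕ, d < k →
      Subsingleton (ModSite.HU O_C F k W)) V)
    (hB' : ∀ U : D, ∃ (ι : Type u) (Y : ι → D) (g : ∀ i, Y i ⟶ U), Sieve.ofArrows Y g ∈ K U ∧ ∀ i, Y i ∈ B')
    (hA' : ∀ V ∈ B', ∃ d : ℕ, CofinalCover K (fun Y => ∀ (F : ModSite.Mod O_C), A F → ∀ k : ℕ, d < k →
      Subsingleton (ModSite.HU O_C F k (f.fn.obj Y))) V)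
    (N : ℤ) (h4 : ∀ F, A F → ∀ p : ℕ, N < (p : ℤ) → IsZero ((f.Rpush p).obj F))
    (X : DerivedCategory (ModSite.Mod O_C)) (hX : WSerre.cohIn A X) :
    WSerre.cohIn A' (RF.obj X) := fun j => by
  haveI := isIso_homology_rpush_truncGE f RF α A B B' hB hA hB' hA' N h4 X hX (j - N) j (by omega)
  obtain ⟨_, _⟩ := DerLib.KInjDerived.exists_isTriangulated_map (DerLib.KInjDerived.enoughKInj _) f.push RF α
  refine A'.prop_of_iso (asIso ((homologyFunctor (ModSite.Mod O_D) j).map
    (RF.map ((t.truncGEπ (j - N)).app X)))).symm ?_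
  refine DerLib.WeakSerreTri.cohIn_of_isGE A A' RF (leftBound_rpush f RF α)
    (fun F hF => cohIn_rpush_single f RF α A' F (h3 F hF)) ((t.truncGE (j - N)).obj X) (j - N)
    (fun q => ?_) j
  by_cases hq : j - N ≤ q
  · haveI := isIso_homology_truncGEπ X (j - N) q hq
    exact A.prop_of_iso (asIso ((homologyFunctor _ q).map ((t.truncGEπ (j - N)).app X))) (hX q)
  · exact A.prop_of_isZero (isZero_of_isGE ((t.truncGE (j - N)).obj X) (j - N) q (by omega))

end Groth.Agent.ModCohLib
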