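/-
Vanishing of cohomology upstairs from vanishing of cohomology of higher direct images downstairs.
-/
import Groth.Agent.ModCohLib.Push
import Groth.Agent.SpSeqLib.AcyclicComplex
import Groth.Agent.CohLib.Push

set_option linter.unusedSectionVars false
set_option linter.style.haveILetI false
set_option backward.isDefEq.respectTransparency false

universe w w' u

open CategoryTheory Limits Pretriangulated DerivedCategory DerivedCategory.TStructure
open CategoryTheory.Abelian
open Opposite (op unop)

namespace Groth.Agent.ModCohLib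

variable {C : Type u} [SmallCategory C] {J : GrothendieckTopology C} {O : Sheaf J CommRingCat.{u}}

variable (O) in
instance preservesFiniteLimits_secAt (Y : C) : PreservesFiniteLimits (secAt O Y) := by
  haveI : PreservesFiniteLimits (SheafOfModules.toSheaf.{u} (ModSite.ringSh O)) := inferInstance
  haveI : PreservesFiniteLimits (sheafToPresheaf J AddCommGrpCat.{u}) := inferInstance
  haveI : PreservesFiniteLimits (Psec O) := comp_preservesFiniteLimits _ _
  exact comp_preservesFiniteLimits _ _

theorem isSAcyclic_secAt [HasDerivedCategory.{w} (ModSite.Mod O)]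
    (M : ModSite.Mod O) (Y : C) (h : ∀ q : ℕ, Subsingleton (ModSite.HU O M (q + 1) Y)) :
    SpSeqLib.IsSAcyclic (secAt O Y) M := by
  haveI : HasExt.{u} (ModSite.Mod O) := hasExt_of_enoughInjectives.{u} _
  rw [SpSeqLib.isSAcyclic_iff]
  intro q hq
  obtain ⟨q, rfl⟩ := Nat.exists_eq_succ_of_ne_zero hq.ne'
  obtain ⟨i⟩ := CohLib.nonempty_rightDerived_iso_ext (secAt O Y) (ModSite.freeOn O Y)
    (fun R => (AddEquiv.mk' (ModSiteLib.freeOnEquiv R Y) (freeOnEquiv_add R Y)).symm)
    (fun {R R'} g x => (AddEquiv.mk' (ModSiteLib.freeOnEquiv R' Y) (freeOnEquiv_add R' Y)).symm_apply_eq.2 (by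
      refine Eq.trans ?_ (ModSiteLib.freeOnEquiv_comp Y _ g).symm
      exact (congrArg _ ((ModSiteLib.freeOnEquiv R Y).apply_symm_apply x)).symm)) M (q + 1)
  obtain ⟨e⟩ := nonempty_ext_freeOn_iso_HU (O := O) M Y (q + 1)
  haveI := h q
  haveI : Subsingleton (Ext.{u} (ModSite.freeOn O Y) M (q + 1)) := e.toEquiv.subsingleton
  exact (AddCommGrpCat.isZero_of_subsingleton _).of_iso i

/-- If maps out of the free module to a module in degree zero vanish, its cohomology vanishes. -/
theorem subsingleton_HU_of_hom_eq_zero [HasDerivedCategory.{w} (ModSite.Mod O)] (M : ModSite.Mod O)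
    (Y : C) (k : ℕ)
    (h : ∀ x : dgen O Y k ⟶ (singleFunctor (ModSite.Mod O) 0).obj M, x = 0) :
    Subsingleton (ModSite.HU O M k Y) := by
  haveI : HasExt.{u} (ModSite.Mod O) := hasExt_of_enoughInjectives.{u} _
  obtain ⟨e⟩ := nonempty_ext_freeOn_iso_HU (O := O) M Y k
  let G := fun n => singleFunctor (ModSite.Mod O) n
  let eS := ((singleFunctors (ModSite.Mod O)).shiftIso (k : ℤ) 0 k (by omega)).app (ModSite.freeOn O Y)
  haveI : Subsingleton ((G 0).obj (ModSite.freeOn O Y) ⟶ ((G 0).obj M)⟦(k : ℤ)⟧) := ⟨fun y y' => by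
    have key : ∀ z : (G 0).obj (ModSite.freeOn O Y) ⟶ ((G 0).obj M)⟦(k : ℤ)⟧, z = 0 := fun z => by
      obtain ⟨x, hx⟩ := (shiftFunctor (DerivedCategory (ModSite.Mod O)) (k : ℤ)).map_surjective
        (eS.hom ≫ z)
      rw [h x, Functor.map_zero] at hx
      rw [← cancel_epi eS.hom, comp_zero]
      exact hx.symm
    rw [key y, key y']⟩
  haveI : Subsingleton (Ext.{u} (ModSite.freeOn O Y) M k) := Ext.homEquiv.subsingleton
  exact e.symm.toEquiv.subsingleton

variable {D : Type u} [SmallCategory D] {K : GrothendieckTopology D} {O_D : Sheaf K CommRingCat.{u}}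
  (f : ModSite.RMor O O_D) [HasDerivedCategory.{w} (ModSite.Mod O)]
  [HasDerivedCategory.{w'} (ModSite.Mod O_D)] [HasInjectiveResolutions (ModSite.Mod O)]

theorem subsingleton_HU_push_injective_mod (I : ModSite.Mod O) [Injective I] (Y : D) (q : ℕ) :
    Subsingleton (ModSite.HU O_D (f.push.obj I) (q + 1) Y) :=
  CohLib.subsingleton_HU _
    (CohLib.isTotallyAcyclic_push J K f.fn (CohLib.isTotallyAcyclic_toSheaf (ModSite.ringSh O) I)) Y q

/-- Cohomology upstairs over `f.fn Y` vanishes if cohomology of the higher direct images vanishes. -/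
theorem subsingleton_HU_of_rpush (F : ModSite.Mod O) (k : ℕ) (Y : D)
    (h : ∀ p l : ℕ, p + l = k → Subsingleton (ModSite.HU O_D ((f.Rpush p).obj F) l Y)) :
    Subsingleton (ModSite.HU O F k (f.fn.obj Y)) := by
  let R : InjectiveResolution F := injectiveResolution F
  let P := f.push.mapHomologicalComplex (ComplexShape.up ℤ)
  let M : CochainComplex (ModSite.Mod O_D) ℤ := P.obj R.cochainComplex
  haveI : ∀ m, Injective (R.cochainComplex.X m) := fun m => inferInstance
  haveI : R.cochainComplex.IsKInjective := CochainComplex.isKInjective_of_injective R.cochainComplex 0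
  haveI : M.IsStrictlyGE 0 := by
    rw [CochainComplex.isStrictlyGE_iff]
    intro i hi
    exact f.push.map_isZero (R.cochainComplex.isZero_of_isStrictlyGE 0 i hi)
  haveI : EnoughInjectives (ModSite.Mod O_D) := inferInstance
  obtain ⟨L, φ, hφ, hLi, hLn⟩ := CochainComplex.Plus.modelCategoryQuillen.exists_quasiIso_injective M 0
  haveI : L.IsKInjective := CochainComplex.isKInjective_of_injective L 0
  haveI : HasInjectiveResolutions (ModSite.Mod O_D) := inferInstance
  have hb : BijAt φ (k : ℤ) Y := by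
    rw [bijAt_iff_secAt]
    have := SpSeqLib.quasiIso_map_of_isSAcyclic (secAt O_D Y) φ 0
      (fun n => isSAcyclic_secAt _ Y fun q => subsingleton_HU_push_injective_mod f (R.cochainComplex.X n) Y q)
      (fun n => haveI := hLi n; SpSeqLib.isSAcyclic_of_injective _ (L.X n))
    infer_instance
  have hQ : ∀ g : gen O_D Y k ⟶ M, Q.map g = 0 := fun g => by
    haveI : (Q.obj M).IsGE 0 := by
      rw [isGE_Q_obj_iff]
      infer_instance
    refine dgen_hom_eq_zero Y k 0 (Q.obj M) (fun m l hml => ?_) (Q.map g)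
    by_cases hm : 0 ≤ m
    · obtain ⟨p, rfl⟩ := Int.eq_ofNat_of_zero_le hm
      exact subsingleton_HU_of_iso ((homologyFunctorFactors (ModSite.Mod O_D) (p : ℤ)).app M ≪≫
        HomologicalComplex.homologyMapIso (SpSeqLib.mapExtendNatIso f.push R.cocomplex) (p : ℤ) ≪≫
        HomologicalComplex.extendHomologyIso ((f.push.mapHomologicalComplex _).obj R.cocomplex)
          ComplexShape.embeddingUpNat (j := p) (j' := (p : ℤ)) rfl ≪≫
        (R.isoRightDerivedObj f.push p).symm) l Y (h p l (by omega))
    · exact subsingleton_HU_of_isZero (isZero_of_isGE (Q.obj M) 0 m (by omega)) l Y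
  have hM : ∀ y : (hpsh M (k : ℤ)).obj (op Y), y = 0 := fun y => by
    obtain ⟨g, rfl⟩ := cls_surjective M Y k y
    apply hb.1
    rw [map_zero, ← cls_comp, cls_eq_zero_iff]
    exact ⟨HomotopyCategory.homotopyOfEq _ _ ((DerLib.KInjUse.quotient_eq_zero_of_Q
      (by rw [Functor.map_comp, hQ g, zero_comp])).trans (Functor.map_zero _ _ _).symm)⟩
  have hz : BijAt (P.map (0 : R.cochainComplex ⟶ R.cochainComplex)) (k : ℤ) Y :=
    ⟨fun y y' _ => (hM y).trans (hM y').symm, fun y => ⟨0, (hM _).trans (hM y).symm⟩⟩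
  rw [bijAt_push_iff, bijAt_iff] at hz
  refine subsingleton_HU_of_hom_eq_zero F (f.fn.obj Y) k fun x => ?_
  haveI := (isIso_Q_map_iff_quasiIso (ModSite.Mod O) R.ι').2 inferInstance
  let e := (singleFunctorIsoCompQ (ModSite.Mod O) 0).app F ≪≫ asIso (Q.map R.ι')
  rw [← cancel_mono e.hom, zero_comp]
  exact hz.1 (by simp only [Functor.map_zero, comp_zero])

end Groth.Agent.ModCohLib
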