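/-
Equivalence of derived categories with cohomology conditions along a flat morphism.
-/
import Groth.Agent.ModCohLib.Leray
import Groth.Agent.DerLib.ExactHomology
import Mathlib.CategoryTheory.Triangulated.Adjunction

set_option linter.unusedSectionVars false
set_option linter.style.haveILetI false
set_option backward.isDefEq.respectTransparency false

universe u

open CategoryTheory Limits Pretriangulated DerivedCategory DerivedCategory.TStructure
open Opposite (op unop)
attribute [local instance] HasDerivedCategory.standard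

namespace Groth.Agent.ModCohLib

/-- Truncation only sees cohomology in high degrees. -/
theorem isIso_truncGE_map {A : Type (u + 1)} [Category.{u} A] [Abelian A] {X Y : DerivedCategory A}
    (g : X ⟶ Y) (c : ℤ) (h : ∀ q, c ≤ q → IsIso ((homologyFunctor A q).map g)) :
    IsIso ((t.truncGE c).map g) := by
  refine (DerivedCategory.isIso_iff _ _).2 fun q => ?_
  by_cases hq : c ≤ q
  · haveI := isIso_homology_truncGEπ X c q hq
    haveI := isIso_homology_truncGEπ Y c q hq
    haveI := h q hq
    haveI : IsIso ((homologyFunctor A q).map ((t.truncGEπ c).app X) ≫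
        (homologyFunctor A q).map ((t.truncGE c).map g)) := by
      rw [← Functor.map_comp, ← (t.truncGEπ c).naturality g, Functor.map_comp]
      show IsIso ((homologyFunctor A q).map g ≫ (homologyFunctor A q).map ((t.truncGEπ c).app Y))
      infer_instance
    exact IsIso.of_isIso_comp_left ((homologyFunctor A q).map ((t.truncGEπ c).app X)) _
  · exact (isZero_of_isGE ((t.truncGE c).obj X) c q (by omega)).isIso
      (isZero_of_isGE ((t.truncGE c).obj Y) c q (by omega)) _

variable {C : Type u} [SmallCategory C] {J : GrothendieckTopology C} {O_C : Sheaf J CommRingCat.{u}}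
  {D : Type u} [SmallCategory D] {K : GrothendieckTopology D} {O_D : Sheaf K CommRingCat.{u}}
  (f : ModSite.RMor O_C O_D) [PreservesFiniteLimits f.pull] [SiteCmp.HasRpushD f]
  (adj : SiteCmp.pullD f ⊣ SiteCmp.RpushD f)
  (A : ObjectProperty (ModSite.Mod O_C)) [WSerre.IsWeakSerre A]
  (A' : ObjectProperty (ModSite.Mod O_D)) [WSerre.IsWeakSerre A']

/-- `f^*` of a module in degree zero. -/
noncomputable def pullInDIso (F' : ModSite.Mod O_D) :
    (SiteCmp.pullD f).obj (SiteCmp.inD O_D F') ≅ SiteCmp.inD O_C (f.pull.obj F') :=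
  (f.pull.mapDerivedCategorySingleFunctor 0).app F'

include adj in
theorem rpush_prop [HasInjectiveResolutions (ModSite.Mod O_C)]
    (h2c : ∀ F : ModSite.Mod O_C, A F → ∃ F' : ModSite.Mod O_D, A' F' ∧ Nonempty (f.pull.obj F' ≅ F))
    (h3 : ∀ F' : ModSite.Mod O_D, A' F' → IsIso (adj.unit.app (SiteCmp.inD O_D F')))
    (F : ModSite.Mod O_C) (hF : A F) :
    A' ((f.Rpush 0).obj F) ∧ ∀ p : ℕ, 0 < p → IsZero ((f.Rpush p).obj F) := by
  obtain ⟨F', hF', ⟨e⟩⟩ := h2c F hF
  haveI := h3 F' hF'
  let e' : SiteCmp.inD O_D F' ≅ (SiteCmp.RpushD f).obj (SiteCmp.inD O_C F) :=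
    asIso (adj.unit.app (SiteCmp.inD O_D F')) ≪≫
      (SiteCmp.RpushD f).mapIso (pullInDIso f F' ≪≫ (singleFunctor _ 0).mapIso e)
  have key : ∀ p : ℕ, Nonempty ((homologyFunctor (ModSite.Mod O_D) (p : ℤ)).obj (SiteCmp.inD O_D F') ≅
      (f.Rpush p).obj F) := fun p => by
    obtain ⟨k⟩ := nonempty_homology_rpush_single_iso f (SiteCmp.RpushD f)
      ((SiteCmp.pushKh f).totalRightDerivedUnit DerivedCategory.Qh
        (HomotopyCategory.quasiIso (ModSite.Mod O_C) (ComplexShape.up ℤ))) F p
    exact ⟨(homologyFunctor (ModSite.Mod O_D) (p : ℤ)).mapIso e' ≪≫ k⟩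
  constructor
  · obtain ⟨k⟩ := key 0
    exact A'.prop_of_iso (((singleFunctorCompHomologyFunctorIso _ 0).app F').symm ≪≫ k) hF'
  · intro p hp
    obtain ⟨k⟩ := key p
    exact (isZero_of_isLE (SiteCmp.inD O_D F') 0 (p : ℤ) (by omega)).of_iso k.symm

theorem cohIn_pullD (h2a : ∀ F', A' F' → A (f.pull.obj F')) (Y : DerivedCategory (ModSite.Mod O_D))
    (hY : WSerre.cohIn A' Y) : WSerre.cohIn A ((SiteCmp.pullD f).obj Y) := fun q =>
  A.prop_of_iso ((DerLib.ExactHomology.homologyIso f.pull q).app Y).symm (h2a _ (hY q))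

theorem cohIn_truncGE {O : Sheaf J CommRingCat.{u}} (P : ObjectProperty (ModSite.Mod O))
    [WSerre.IsWeakSerre P] (X : DerivedCategory (ModSite.Mod O)) (hX : WSerre.cohIn P X) (c : ℤ) :
    WSerre.cohIn P ((t.truncGE c).obj X) := fun q => by
  by_cases hq : c ≤ q
  · haveI := isIso_homology_truncGEπ X c q hq
    exact P.prop_of_iso (asIso ((homologyFunctor _ q).map ((t.truncGEπ c).app X))) (hX q)
  · exact P.prop_of_isZero (isZero_of_isGE ((t.truncGE c).obj X) c q (by omega))

theorem flat_equiv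
    (h2a : ∀ F' : ModSite.Mod O_D, A' F' → A (f.pull.obj F'))
    (h2c : ∀ F : ModSite.Mod O_C, A F → ∃ F' : ModSite.Mod O_D, A' F' ∧ Nonempty (f.pull.obj F' ≅ F))
    (h3 : ∀ F' : ModSite.Mod O_D, A' F' → IsIso (adj.unit.app (SiteCmp.inD O_D F')))
    (B : Set C) (B' : Set D)
    (hB : ∀ U : C, ∃ (ι : Type u) (Y : ι → C) (g : ∀ i, Y i ⟶ U), Sieve.ofArrows Y g ∈ J U ∧ ∀ i, Y i ∈ B)
    (hA : ∀ V ∈ B, ∃ d : ℕ, CofinalCover J (fun W => ∀ (F : ModSite.Mod O_C), A F → ∀ k : ℕ, d < k →
      Subsingleton (ModSite.HU O_C F k W)) V)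
    (hB' : ∀ U : D, ∃ (ι : Type u) (Y : ι → D) (g : ∀ i, Y i ⟶ U), Sieve.ofArrows Y g ∈ K U ∧ ∀ i, Y i ∈ B')
    (hA' : ∀ V ∈ B', ∃ d : ℕ, CofinalCover K (fun Y => ∀ (F : ModSite.Mod O_C), A F → ∀ k : ℕ, d < k →
      Subsingleton (ModSite.HU O_C F k (f.fn.obj Y))) V) :
    (∀ Y : DerivedCategory (ModSite.Mod O_D), WSerre.cohIn A' Y →
      WSerre.cohIn A ((SiteCmp.pullD f).obj Y) ∧ IsIso (adj.unit.app Y)) ∧
    (∀ X : DerivedCategory (ModSite.Mod O_C), WSerre.cohIn A X →
      WSerre.cohIn A' ((SiteCmp.RpushD f).obj X) ∧ IsIso (adj.counit.app X)) := by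
  haveI : IsGrothendieckAbelian.{u} (ModSite.Mod O_C) := inferInstance
  haveI : HasInjectiveResolutions (ModSite.Mod O_C) := inferInstance
  letI := adj.rightAdjointCommShift ℤ
  haveI : adj.CommShift ℤ := adj.commShift_of_leftAdjoint ℤ
  haveI : (SiteCmp.RpushD f).IsTriangulated := adj.isTriangulated_rightAdjoint
  let P := SiteCmp.pullD f
  let R := SiteCmp.RpushD f
  let α := (SiteCmp.pushKh f).totalRightDerivedUnit DerivedCategory.Qh
    (HomotopyCategory.quasiIso (ModSite.Mod O_C) (ComplexShape.up ℤ))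
  let H := fun q => homologyFunctor (ModSite.Mod O_D) q
  let HC := fun q => homologyFunctor (ModSite.Mod O_C) q
  have hp := DerLib.Amplitude.leftBound_mapDerivedCategory f.pull
  have hr := leftBound_rpush f R α
  have h3' : ∀ F, A F → ∀ p : ℕ, A' ((f.Rpush p).obj F) := fun F hF p => by
    obtain rfl | hp := Nat.eq_zero_or_pos p
    · exact (rpush_prop f adj A A' h2c h3 F hF).1
    · exact A'.prop_of_isZero ((rpush_prop f adj A A' h2c h3 F hF).2 p hp)
  have h4 : ∀ F, A F → ∀ p : ℕ, (0 : ℤ) < (p : ℤ) → IsZero ((f.Rpush p).obj F) := fun F hF p hp =>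
    (rpush_prop f adj A A' h2c h3 F hF).2 p (by omega)
  have hcmp : ∀ (X : DerivedCategory (ModSite.Mod O_C)), WSerre.cohIn A X → ∀ c j : ℤ, c ≤ j →
      IsIso ((H j).map (R.map ((t.truncGEπ c).app X))) := fun X hX c j hcj =>
    isIso_homology_rpush_truncGE f R α A B B' hB hA hB' hA' 0 h4 X hX c j (by omega)
  have hcounit0 : ∀ F, A F → IsIso (adj.counit.app (SiteCmp.inD O_C F)) := fun F hF => by
    obtain ⟨F', hF', ⟨e⟩⟩ := h2c F hF
    haveI := h3 F' hF'
    haveI : IsIso (adj.counit.app (P.obj (SiteCmp.inD O_D F'))) := by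
      haveI : IsIso (P.map (adj.unit.app (SiteCmp.inD O_D F')) ≫
          adj.counit.app (P.obj (SiteCmp.inD O_D F'))) := by
        erw [adj.left_triangle_components]
        infer_instance
      exact IsIso.of_isIso_comp_left (P.map (adj.unit.app (SiteCmp.inD O_D F'))) _
    exact (NatTrans.isIso_app_iff_of_iso adj.counit
      (pullInDIso f F' ≪≫ (singleFunctor _ 0).mapIso e)).1 inferInstance
  constructor
  · intro Y hY
    have hPY := cohIn_pullD f A A' h2a Y hY
    refine ⟨hPY, (DerivedCategory.isIso_iff _ _).2 fun j => ?_⟩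
    let π := (t.truncGEπ j).app Y
    let Y₁ := (t.truncGE j).obj Y
    have hY₁ : WSerre.cohIn A' Y₁ := cohIn_truncGE A' Y hY j
    haveI : Y₁.IsGE j := inferInstanceAs (t.IsGE ((t.truncGE j).obj Y) j)
    haveI hu : IsIso (adj.unit.app Y₁) :=
      DerLib.Devissage.isIso_app_of_isGE adj.unit 0 DerLib.Devissage.leftBound_id
        (DerLib.Devissage.leftBound_comp hp hr) Y₁ j fun q => h3 _ (hY₁ q)
    haveI : IsIso ((H j).map π) := isIso_homology_truncGEπ Y j j le_rfl
    haveI : IsIso ((H j).map (R.map (P.map π))) := by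
      haveI := isIso_truncGE_map (P.map π) j fun q hq =>
        haveI := isIso_homology_truncGEπ Y j q hq
        DerLib.ExactHomology.isIso_homology_map f.pull π q
      haveI := hcmp _ hPY j j le_rfl
      haveI := hcmp _ (cohIn_pullD f A A' h2a Y₁ hY₁) j j le_rfl
      haveI : IsIso ((H j).map (R.map (P.map π)) ≫
          (H j).map (R.map ((t.truncGEπ j).app (P.obj Y₁)))) := by
        rw [← Functor.map_comp, ← Functor.map_comp,
          show P.map π ≫ (t.truncGEπ j).app (P.obj Y₁) =
            (t.truncGEπ j).app (P.obj Y) ≫ (t.truncGE j).map (P.map π) from (t.truncGEπ j).naturality _,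
          Functor.map_comp, Functor.map_comp]
        infer_instance
      exact IsIso.of_isIso_comp_right _ ((H j).map (R.map ((t.truncGEπ j).app (P.obj Y₁))))
    haveI : IsIso ((H j).map (adj.unit.app Y) ≫ (H j).map (R.map (P.map π))) := by
      rw [← Functor.map_comp,
        show adj.unit.app Y ≫ R.map (P.map π) = π ≫ adj.unit.app Y₁ from (adj.unit.naturality π).symm,
        Functor.map_comp]
      infer_instance
    exact IsIso.of_isIso_comp_right _ ((H j).map (R.map (P.map π)))
  · intro X hX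
    refine ⟨cohIn_rpush f R α A A' h3' B B' hB hA hB' hA' 0 h4 X hX,
      (DerivedCategory.isIso_iff _ _).2 fun j => ?_⟩
    let π := (t.truncGEπ j).app X
    let X₁ := (t.truncGE j).obj X
    have hX₁ : WSerre.cohIn A X₁ := cohIn_truncGE A X hX j
    haveI : X₁.IsGE j := inferInstanceAs (t.IsGE ((t.truncGE j).obj X) j)
    haveI hu : IsIso (adj.counit.app X₁) :=
      DerLib.Devissage.isIso_app_of_isGE adj.counit 0 (DerLib.Devissage.leftBound_comp hr hp)
        DerLib.Devissage.leftBound_id X₁ j fun q => hcounit0 _ (hX₁ q)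
    haveI : IsIso ((HC j).map π) := isIso_homology_truncGEπ X j j le_rfl
    haveI : IsIso ((HC j).map (P.map (R.map π))) := by
      haveI := hcmp X hX j j le_rfl
      exact DerLib.ExactHomology.isIso_homology_map f.pull (R.map π) j
    haveI : IsIso ((HC j).map (adj.counit.app X) ≫ (HC j).map π) := by
      rw [← Functor.map_comp,
        show adj.counit.app X ≫ π = P.map (R.map π) ≫ adj.counit.app X₁ from (adj.counit.naturality π).symm,
        Functor.map_comp]
      infer_instance
    exact IsIso.of_isIso_comp_right _ ((HC j).map π)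

end Groth.Agent.ModCohLib
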